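import Cfsg.Agent.Lib.FusionQuot.SimpleCriterion

/-!
Invariant saturated subsystems of the fusion system of a finite group: conjugation by products of
`p`-elements of normalizers, and extension of conjugation maps from self-centralizing subgroups.
-/
set_option autoImplicit false

namespace CfsgLib.FusionQuot

open Cfsg Cfsg.FusionSystem CfsgLib.Fusion

variable {Ω : Type*} [Group Ω] {S T : Subgroup Ω} {F : Cfsg.FusionSystem S} {E : Cfsg.FusionSystem T}

/-- `Aut_E` is transported by `F`-isomorphisms. -/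
theorem congr_mem_autGroup_of_invariant (hinv : E.IsInvariantIn F) {P Q : Subgroup Ω} (hPT : P ≤ T)
    (hQT : Q ≤ T) {e : P ≃* Q} (he : IsFIso F e) {γ : MulAut P} (hγ : γ ∈ E.autGroup P) :
    MulAut.congr e γ ∈ E.autGroup Q := by
  obtain ⟨α, hα, φ₀, hφ₀, heq⟩ := hinv.2.2.2 P hPT _ he
  obtain ⟨f, hf, hfx⟩ := exists_iso hφ₀ rfl
  have hex : ∀ (x : P) (hx : (f x : Ω) ∈ T), (e x : Ω) = ((α ⟨(f x : Ω), hx⟩ : T) : Ω) := by
    intro x hx
    have := heq x (hfx x ▸ hx)
    simpa [hfx] using this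
  have hγ' : IsFIso E ((f.symm.trans (γ : P ≃* P)).trans f) :=
    (hf.symm.trans ((mem_autGroup_iff hPT).1 hγ)).trans hf
  have hmap : (φ₀.range.subgroupOf T).map (T.subtype.comp α.toMonoidHom) = Q := by
    ext y
    constructor
    · rintro ⟨⟨z, hzT⟩, ⟨x, rfl⟩, rfl⟩
      show ((α ⟨φ₀ x, hzT⟩ : T) : Ω) ∈ Q
      rw [← heq x hzT]
      exact (e x).2
    · intro hy
      have hm : φ₀ (e.symm ⟨y, hy⟩) ∈ T := map_mem hφ₀ _
      refine ⟨⟨_, hm⟩, ⟨_, rfl⟩, ?_⟩
      show ((α ⟨φ₀ (e.symm ⟨y, hy⟩), hm⟩ : T) : Ω) = y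
      rw [← heq]
      simp
  refine (mem_autGroup_iff hQT).2 (isFIso_transport hinv hγ' α hα _ hmap fun z hzT hy hx' => ?_)
  obtain ⟨x, rfl⟩ := f.surjective z
  have h1 : (⟨_, hx'⟩ : Q) = e x := Subtype.ext (hex x hzT).symm
  rw [h1]
  have e3 : ((f.symm.trans (γ : P ≃* P)).trans f) (f x) = f (γ x) := by simp
  simp only [e3] at hy ⊢
  rw [← hex (γ x) hy, congr_apply, MulEquiv.symm_apply_apply]

variable {G : Type*} [Group G] [Finite G] {p : ℕ} [Fact p.Prime]

/-- Conjugation by a product of `p`-elements normalizing `R` lies in every invariant saturated subsystem. -/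
theorem conjHom_mem_of_closure (S : Sylow p G) {E : Cfsg.FusionSystem (S : Subgroup G)}
    (hE : E.IsSaturated p) (hinv : E.IsInvariantIn (groupFusionSystem (S : Subgroup G))) {R : Subgroup G}
    (hR : R ≤ (S : Subgroup G)) {g : G}
    (hg : g ∈ Subgroup.closure {g : G | g ∈ Subgroup.normalizer (R : Set G) ∧ ∃ k : ℕ, orderOf g = p ^ k}) :
    conjHom R g ∈ E.Hom R := by
  set F := groupFusionSystem (S : Subgroup G) with hFdef
  have hF := groupFusionSystem_isSaturated S
  obtain ⟨R', hconj, hn⟩ := exists_isFullyNormalized F hR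
  obtain ⟨e, he⟩ := exists_iso_of_isConj (isConj_symm hconj)
  have hR' : R' ≤ (S : Subgroup G) := hn.1
  obtain ⟨T, hT⟩ := (isFullyAutomized_of_isFullyNormalized S.2 hF hn).2
  let A' : Subgroup (F.autGroup R') := (E.autGroup R').subgroupOf (F.autGroup R')
  have hAn : A'.Normal := ⟨fun a ha b => conj_mem_autGroup_of_invariant hinv hR' b.2 ha⟩
  have hTA : (T : Subgroup (F.autGroup R')) ≤ A' := fun x hx => by
    rw [hT] at hx
    exact autInducedBy_le_autGroup E hR' hx
  have : Finite (MulAut R') := finite_mulAut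
  have hp' : ∀ c : F.autGroup R', (∃ k : ℕ, c ^ p ^ k = 1) → c ∈ A' := by
    rintro c ⟨k, hc⟩
    have hpc : IsPGroup p (Subgroup.zpowers c) := by
      rintro ⟨_, i, rfl⟩
      refine ⟨k, Subtype.ext ?_⟩
      show (c ^ i) ^ p ^ k = 1
      rw [← zpow_natCast, ← zpow_mul, mul_comm, zpow_mul, zpow_natCast, hc, one_zpow]
    obtain ⟨m, hm⟩ := exists_conj_le_sylow T hpc
    have h1 := hAn.conj_mem _ (hTA (hm c (Subgroup.mem_zpowers c))) m⁻¹
    simpa [mul_assoc] using h1
  have hp : ∀ γ : MulAut R, γ ∈ F.autGroup R → (∃ k : ℕ, γ ^ p ^ k = 1) → γ ∈ E.autGroup R := by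
    rintro γ hγ ⟨k, hk⟩
    have h1 : MulAut.congr e.symm γ ∈ F.autGroup R' := he.symm.congr_mem hγ
    have h2 : MulAut.congr e.symm γ ∈ E.autGroup R' :=
      hp' ⟨_, h1⟩ ⟨k, Subtype.ext (by
        show (MulAut.congr e.symm γ) ^ p ^ k = 1
        rw [← map_pow, hk, map_one])⟩
    have h3 := congr_mem_autGroup_of_invariant hinv hR' hR he h2
    convert h3 using 1
    ext x
    simp [congr_apply]
  suffices key : ∃ h : g ∈ Subgroup.normalizer (R : Set G), conjAut R g h ∈ E.autGroup R by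
    obtain ⟨hN, hmem⟩ := key
    exact (mem_autGroup_iff_hom hR).1 hmem
  refine Subgroup.closure_induction
    (p := fun y _ => ∃ h : y ∈ Subgroup.normalizer (R : Set G), conjAut R y h ∈ E.autGroup R)
    ?_ ⟨one_mem _, ?_⟩ ?_ ?_ hg
  · rintro y ⟨hyN, k, hk⟩
    refine ⟨hyN, hp _ ?_ ⟨k, ?_⟩⟩
    · rw [group_autGroup_eq hR]
      exact conjAut_mem_autInducedBy (Subgroup.mem_top y) hyN
    · have hy1 : (⟨y, hyN⟩ : Subgroup.normalizer (R : Set G)) ^ p ^ k = 1 :=
        Subtype.ext (by rw [Subgroup.coe_pow, ← hk, pow_orderOf_eq_one]; rfl)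
      show (R.normalizerMonoidHom ⟨y, hyN⟩) ^ p ^ k = 1
      rw [← map_pow, hy1, map_one]
  · rw [show conjAut R (1 : G) (one_mem _) = 1 from map_one _]
    exact one_mem _
  · rintro a b - - ⟨ha, ha'⟩ ⟨hb, hb'⟩
    refine ⟨mul_mem ha hb, ?_⟩
    rw [show conjAut R (a * b) (mul_mem ha hb) = conjAut R a ha * conjAut R b hb from
      map_mul R.normalizerMonoidHom ⟨a, ha⟩ ⟨b, hb⟩]
    exact mul_mem ha' hb'
  · rintro a - ⟨ha, ha'⟩
    refine ⟨inv_mem ha, ?_⟩
    rw [show conjAut R a⁻¹ (inv_mem ha) = (conjAut R a ha)⁻¹ from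
      map_inv R.normalizerMonoidHom ⟨a, ha⟩]
    exact inv_mem ha'

/-- A conjugation map in an invariant saturated subsystem on a subgroup containing its own centralizer extends
to every overgroup that the element conjugates into `S`. -/
theorem conjHom_mem_extend (S : Sylow p G) {E : Cfsg.FusionSystem (S : Subgroup G)}
    (hE : E.IsSaturated p) (hsub : E.IsSubsystemOf (groupFusionSystem (S : Subgroup G))) {R P : Subgroup G}
    (hRP : R ≤ P) (hPS : P ≤ (S : Subgroup G)) (hC : Subgroup.centralizer (R : Set G) ≤ R) {g : G}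
    (hgP : ∀ x ∈ P, g * x * g⁻¹ ∈ (S : Subgroup G)) (h : conjHom R g ∈ E.Hom R) :
    conjHom P g ∈ E.Hom P := by
  induction hn : Nat.card P - Nat.card R using Nat.strong_induction_on generalizing R with
  | _ n ih =>
  rcases hRP.eq_or_lt with rfl | hlt
  · exact h
  set N := normalizerIn P R with hN
  have hNP : N ≤ P := normalizerIn_le P R
  have hNS : N ≤ (S : Subgroup G) := hNP.trans hPS
  have hRN : R ≤ N := le_normalizerIn hRP
  obtain ⟨e, he, hex⟩ := exists_iso h rfl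
  have hcen : E.IsCentric (conjHom R g).range := by
    refine ⟨fun y hy => ?_, fun Q hQ => ?_⟩
    · obtain ⟨x, rfl⟩ := hy
      exact map_mem h x
    · obtain ⟨-, -, k, hk⟩ := group_isConj_iff.1
        (isConj_trans (isConj_of_subsystem hsub (isConj_of_mem h)) (isConj_of_subsystem hsub hQ))
      intro c hc
      rw [← hk]
      have hc2 : k⁻¹ * c * k ∈ Subgroup.centralizer (R : Set G) := by
        refine Subgroup.mem_centralizer_iff.2 fun r hr => ?_
        have h1 := Subgroup.mem_centralizer_iff.1 hc.2 (k * r * k⁻¹) (hk ▸ ⟨r, hr, rfl⟩)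
        calc r * (k⁻¹ * c * k) = k⁻¹ * (k * r * k⁻¹ * c) * k := by group
          _ = k⁻¹ * (c * (k * r * k⁻¹)) * k := by rw [h1]
          _ = k⁻¹ * c * k * r := by group
      exact ⟨_, hC hc2, by show k * (k⁻¹ * c * k) * k⁻¹ = c; group⟩
  obtain ⟨ψ, hψ, -, hag⟩ := he.exists_extension (isReceptive_of_isCentric S.2 hE hcen) hRN
    (fun x hx => ⟨hNS hx, hx.2⟩) fun y hy => by
      refine mem_autInducedBy_iff.2 ⟨g * y * g⁻¹, hgP y (hNP hy), fun z => ?_⟩
      obtain ⟨x, rfl⟩ := e.surjective z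
      rw [congr_apply, MulEquiv.symm_apply_apply, hex, hex, conjHom_apply, conjHom_apply, conjAut_apply]
      group
  obtain ⟨-, -, k, hk⟩ := hsub N hψ
  have hkC : g⁻¹ * k ∈ Subgroup.centralizer (R : Set G) := by
    refine Subgroup.mem_centralizer_iff.2 fun r hr => ?_
    have h1 : g * r * g⁻¹ = k * r * k⁻¹ := by
      rw [← hk ⟨r, hRN hr⟩, hag ⟨r, hr⟩, hex]
      rfl
    calc r * (g⁻¹ * k) = g⁻¹ * (g * r * g⁻¹) * k := by group
      _ = g⁻¹ * (k * r * k⁻¹) * k := by rw [h1]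
      _ = g⁻¹ * k * r := by group
  have hkN : (g⁻¹ * k)⁻¹ ∈ N := N.inv_mem (hRN (hC hkC))
  have hgN : conjHom N g ∈ E.Hom N :=
    mem_of_comp (E.conj_mem hNS (hNS hkN))
      hψ (fun x => N.mul_mem (N.mul_mem hkN x.2) (N.inv_mem hkN)) _ fun x => by
        rw [hk, conjHom_apply]
        show g * (x : G) * g⁻¹ = k * ((g⁻¹ * k)⁻¹ * x * ((g⁻¹ * k)⁻¹)⁻¹) * k⁻¹
        group
  refine ih _ ?_ hNP ((Subgroup.centralizer_le hRN).trans (hC.trans hRN)) hgN rfl
  have : Finite P := finite_of_le hPS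
  have h2 : Nat.card R < Nat.card N :=
    Set.Finite.card_lt_card (s := (R : Set G)) (Set.toFinite (N : Set G))
      (SetLike.coe_ssubset_coe.2 (lt_normalizerIn (S.2.to_le hPS) hlt))
  have h1 := Subgroup.card_le_of_le hNP
  omega

/-- Simplicity from strongly closed subgroups and conjugation maps on `S`. -/
theorem isSimple_of_conjHom (S : Sylow p G) (hne : (S : Subgroup G) ≠ ⊥)
    (ha : ∀ T : Subgroup G, (groupFusionSystem (S : Subgroup G)).StronglyClosed T →
      T = ⊥ ∨ T = (S : Subgroup G))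
    (hb : ∀ E : Cfsg.FusionSystem (S : Subgroup G), E.IsSaturated p →
      E.IsInvariantIn (groupFusionSystem (S : Subgroup G)) →
      ∀ g ∈ Subgroup.normalizer ((S : Subgroup G) : Set G),
        conjHom (S : Subgroup G) g ∈ E.Hom (S : Subgroup G)) :
    (groupFusionSystem (S : Subgroup G)).IsSimple p := by
  refine isSimple_of_forall_eq (groupFusionSystem_isSaturated S) hne ha fun E hE hinv α hα => ?_
  rw [group_autGroup_eq le_rfl] at hα
  obtain ⟨g, hg, -, rfl⟩ := exists_eq_conjAut hα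
  exact (mem_autGroup_iff_hom le_rfl).2 (hb E hE hinv g hg)

/-- Strongly closed subgroups absorb conjugates lying in `S`. -/
theorem conj_mem_of_stronglyClosed {S T : Subgroup G} (hT : (groupFusionSystem S).StronglyClosed T)
    {x g : G} (hx : x ∈ T) (hgx : g * x * g⁻¹ ∈ S) : g * x * g⁻¹ ∈ T := by
  have hmem : conjHom (Subgroup.zpowers x) g ∈ (groupFusionSystem S).Hom (Subgroup.zpowers x) :=
    ⟨Subgroup.zpowers_le.2 (hT.1 hx), by
      rintro ⟨_, i, rfl⟩
      show g * x ^ i * g⁻¹ ∈ S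
      rw [← conj_zpow]
      exact S.zpow_mem hgx i, g, fun _ => rfl⟩
  exact hT.2 _ (Subgroup.zpowers_le.2 hx) _ hmem ⟨x, Subgroup.mem_zpowers x⟩

end CfsgLib.FusionQuot
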