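import Mathlib.GroupTheory.Sylow
import Mathlib.GroupTheory.QuotientGroup.Basic
import Cfsg.Prelude.Def_FusionComponents
import Cfsg.Agent.Lib.Fusion.Basic

/-!
Images and preimages along a homomorphism out of `S`, induced maps, existence of factor systems.
-/
set_option autoImplicit false

namespace CfsgLib.FusionQuot

open Cfsg Cfsg.FusionSystem CfsgLib.Fusion

variable {Ω Ω' : Type*} [Group Ω] [Group Ω'] {S : Subgroup Ω} {α : S →* Ω'}

theorem mem_preimageAlong {P' : Subgroup Ω'} {x : Ω} :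
    x ∈ preimageAlong α P' ↔ ∃ hx : x ∈ S, α ⟨x, hx⟩ ∈ P' := by
  constructor
  · intro h
    obtain ⟨y, hy, rfl⟩ := Subgroup.mem_map.1 h
    exact ⟨y.2, hy⟩
  · rintro ⟨hx, h⟩
    exact Subgroup.mem_map.2 ⟨⟨x, hx⟩, h, rfl⟩

theorem mem_imageAlong {P : Subgroup Ω} {y : Ω'} :
    y ∈ imageAlong α P ↔ ∃ (x : Ω) (hx : x ∈ S), x ∈ P ∧ α ⟨x, hx⟩ = y := by
  constructor
  · rintro ⟨⟨x, hx⟩, hxP, rfl⟩
    exact ⟨x, hx, hxP, rfl⟩
  · rintro ⟨x, hx, hxP, rfl⟩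
    exact ⟨⟨x, hx⟩, hxP, rfl⟩

theorem apply_mem_imageAlong {P : Subgroup Ω} {x : Ω} (hx : x ∈ S) (hP : x ∈ P) :
    α ⟨x, hx⟩ ∈ imageAlong α P :=
  mem_imageAlong.2 ⟨x, hx, hP, rfl⟩

theorem preimageAlong_le (P' : Subgroup Ω') : preimageAlong α P' ≤ S := fun _ hx =>
  (mem_preimageAlong.1 hx).1

theorem preimageAlong_mono {P' Q' : Subgroup Ω'} (h : P' ≤ Q') :
    preimageAlong α P' ≤ preimageAlong α Q' := fun _ hx => by
  obtain ⟨hS, hP⟩ := mem_preimageAlong.1 hx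
  exact mem_preimageAlong.2 ⟨hS, h hP⟩

theorem imageAlong_mono {P Q : Subgroup Ω} (h : P ≤ Q) : imageAlong α P ≤ imageAlong α Q := by
  intro y hy
  obtain ⟨x, hx, hP, rfl⟩ := mem_imageAlong.1 hy
  exact apply_mem_imageAlong hx (h hP)

theorem imageAlong_le_range (P : Subgroup Ω) : imageAlong α P ≤ α.range := Subgroup.map_le_range _ _

theorem imageAlong_self : imageAlong α S = α.range := by
  rw [imageAlong, Subgroup.subgroupOf_self, MonoidHom.range_eq_map]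

theorem mem_preimageAlong_of_eq_one {P' : Subgroup Ω'} {x : Ω} (hx : x ∈ S) (h : α ⟨x, hx⟩ = 1) :
    x ∈ preimageAlong α P' :=
  mem_preimageAlong.2 ⟨hx, h.symm ▸ P'.one_mem⟩

theorem imageAlong_preimageAlong {P' : Subgroup Ω'} (h : P' ≤ α.range) :
    imageAlong α (preimageAlong α P') = P' := by
  ext y
  constructor
  · intro hy
    obtain ⟨x, hx, hP, rfl⟩ := mem_imageAlong.1 hy
    exact (mem_preimageAlong.1 hP).2
  · intro hy
    obtain ⟨x, rfl⟩ := h hy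
    exact apply_mem_imageAlong x.2 (mem_preimageAlong.2 ⟨x.2, hy⟩)

theorem le_preimageAlong_imageAlong {R : Subgroup Ω} (hR : R ≤ S) :
    R ≤ preimageAlong α (imageAlong α R) := fun _ hx =>
  mem_preimageAlong.2 ⟨hR hx, apply_mem_imageAlong (hR hx) hx⟩

theorem preimageAlong_imageAlong {R : Subgroup Ω} (hR : R ≤ S)
    (hK : ∀ (x : Ω) (hx : x ∈ S), α ⟨x, hx⟩ = 1 → x ∈ R) :
    preimageAlong α (imageAlong α R) = R := by
  refine le_antisymm (fun x hx => ?_) (le_preimageAlong_imageAlong hR)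
  obtain ⟨hxS, hxi⟩ := mem_preimageAlong.1 hx
  obtain ⟨y, hyS, hyR, hy⟩ := mem_imageAlong.1 hxi
  have hk : α (⟨y, hyS⟩⁻¹ * ⟨x, hxS⟩) = 1 := by rw [map_mul, map_inv, hy, inv_mul_cancel]
  have h := hK _ (⟨y, hyS⟩⁻¹ * ⟨x, hxS⟩ : S).2 hk
  have := R.mul_mem hyR h
  simpa using this

theorem induced_apply {P : Subgroup Ω} {φ : P →* Ω} {P' : Subgroup Ω'} {φ' : P' →* Ω'}
    (h : InducedAlong α φ φ') (x : P) (hx : (x : Ω) ∈ S) (hy : α ⟨x, hx⟩ ∈ P') (hφx : φ x ∈ S) :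
    φ' ⟨α ⟨x, hx⟩, hy⟩ = α ⟨φ x, hφx⟩ := by
  obtain ⟨_, _, _, h4⟩ := h
  exact h4 x

/-- A homomorphism compatible with the kernel descends along `α`. -/
theorem exists_induced {P : Subgroup Ω} {φ : P →* Ω} (hP : P ≤ S) (hφ : ∀ x, φ x ∈ S)
    (hker : ∀ x : P, α ⟨x, hP x.2⟩ = 1 → α ⟨φ x, hφ x⟩ = 1) :
    ∃ φ' : imageAlong α P →* Ω', InducedAlong α φ φ' := by
  let f : P →* imageAlong α P :=
    (α.comp (Subgroup.inclusion hP)).codRestrict _ fun x => apply_mem_imageAlong (hP x.2) x.2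
  have hf : Function.Surjective f := by
    rintro ⟨y, hy⟩
    obtain ⟨x, hx, hxP, rfl⟩ := mem_imageAlong.1 hy
    exact ⟨⟨x, hxP⟩, rfl⟩
  let g : P →* Ω' := α.comp (φ.codRestrict S hφ)
  have hk : f.ker ≤ g.ker := fun x hx => by
    have h1 : α ⟨x, hP x.2⟩ = 1 := congrArg Subtype.val (MonoidHom.mem_ker.1 hx)
    exact hker x h1
  refine ⟨f.liftOfSurjective hf ⟨g, hk⟩, hP, hφ, fun x => apply_mem_imageAlong _ x.2, fun x => ?_⟩
  exact MonoidHom.liftOfRightInverse_comp_apply _ _ _ ⟨g, hk⟩ x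

theorem stronglyClosed_apply_iff {F : Cfsg.FusionSystem S} {S₀ : Subgroup Ω}
    (hS₀ : F.StronglyClosed S₀) {P : Subgroup Ω} {φ : P →* Ω} (hφ : φ ∈ F.Hom P) (x : P) :
    φ x ∈ S₀ ↔ (x : Ω) ∈ S₀ := by
  have key : ∀ (R : Subgroup Ω) (ψ : R →* Ω), ψ ∈ F.Hom R → ∀ y : R, (y : Ω) ∈ S₀ → ψ y ∈ S₀ :=
    fun R ψ hψ y hy =>
      hS₀.2 (R ⊓ S₀) inf_le_right (ψ.comp (Subgroup.inclusion inf_le_left))
        (restrict_mem hψ inf_le_left) ⟨y, y.2, hy⟩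
  refine ⟨fun h => ?_, key P φ hφ x⟩
  obtain ⟨ψ, hψ, hinv⟩ := F.inv_mem hφ
  exact hinv x ▸ key _ ψ hψ ⟨φ x, x, rfl⟩ h

theorem stronglyClosed_subgroupOf_normal {F : Cfsg.FusionSystem S} {S₀ : Subgroup Ω}
    (hS₀ : F.StronglyClosed S₀) : (S₀.subgroupOf S).Normal where
  conj_mem n hn g :=
    (stronglyClosed_apply_iff hS₀ (F.conj_mem le_rfl g.2) n).2 hn

theorem le_range_of_le [Finite S] {F : Cfsg.FusionSystem S} {S₀ : Subgroup Ω}
    (hS₀ : F.StronglyClosed S₀) {P : Subgroup Ω} {φ : P →* Ω} (hφ : φ ∈ F.Hom P) (h : S₀ ≤ P) :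
    S₀ ≤ φ.range := by
  have : Finite S₀ := finite_of_le hS₀.1
  have h1 := range_eq_of_le (hom_inj (restrict_mem hφ h))
    (fun x => (stronglyClosed_apply_iff hS₀ hφ _).2 x.2)
  intro y hy
  rw [← h1] at hy
  obtain ⟨x, rfl⟩ := hy
  exact ⟨_, rfl⟩

/-- The kernel of `α` as a subgroup of the ambient group. -/
def kerAlong (α : S →* Ω') : Subgroup Ω := α.ker.map S.subtype

theorem mem_kerAlong {x : Ω} : x ∈ kerAlong α ↔ ∃ hx : x ∈ S, α ⟨x, hx⟩ = 1 := by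
  constructor
  · intro h
    obtain ⟨y, hy, rfl⟩ := Subgroup.mem_map.1 h
    exact ⟨y.2, hy⟩
  · rintro ⟨hx, h⟩
    exact Subgroup.mem_map.2 ⟨⟨x, hx⟩, h, rfl⟩

theorem range_eq_preimageAlong_range [Finite S] {F : Cfsg.FusionSystem S}
    (hK : F.StronglyClosed (kerAlong α)) {P : Subgroup Ω} {φ : P →* Ω} (hφ : φ ∈ F.Hom P)
    (hP : kerAlong α ≤ P) {P' : Subgroup Ω'} (hP' : P' = imageAlong α P) {φ' : P' →* Ω'}
    (hi : InducedAlong α φ φ') : preimageAlong α φ'.range = φ.range := by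
  have h : φ'.range = imageAlong α φ.range := by
    subst hP'
    ext y
    constructor
    · rintro ⟨⟨z, hz⟩, rfl⟩
      obtain ⟨x, hx, hxP, rfl⟩ := mem_imageAlong.1 hz
      rw [induced_apply hi ⟨x, hxP⟩ hx _ (map_mem hφ _)]
      exact apply_mem_imageAlong _ ⟨_, rfl⟩
    · intro hy
      obtain ⟨z, hz, ⟨x, rfl⟩, rfl⟩ := mem_imageAlong.1 hy
      exact ⟨⟨_, apply_mem_imageAlong (dom_le hφ x.2) x.2⟩, induced_apply hi x _ _ hz⟩
  rw [h]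
  exact preimageAlong_imageAlong (range_le hφ) fun x hx hx1 =>
    le_range_of_le hK hφ hP (mem_kerAlong.2 ⟨hx, hx1⟩)

theorem kerAlong_eq {S₀ : Subgroup Ω} (h : S₀ ≤ S) (hθ : ∀ s : S, α s = 1 ↔ (s : Ω) ∈ S₀) :
    kerAlong α = S₀ := by
  ext x
  exact ⟨fun hx => by obtain ⟨hS, h1⟩ := mem_kerAlong.1 hx; exact (hθ ⟨x, hS⟩).1 h1,
    fun hx => mem_kerAlong.2 ⟨h hx, (hθ ⟨x, h hx⟩).2 hx⟩⟩

theorem kerAlong_le_preimageAlong (P' : Subgroup Ω') : kerAlong α ≤ preimageAlong α P' := fun x hx => by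
  obtain ⟨hS, h1⟩ := mem_kerAlong.1 hx
  exact mem_preimageAlong_of_eq_one hS h1

/-- The factor system along `θ`, when the kernel is strongly closed. -/
def factorSystem [Finite S] (F : Cfsg.FusionSystem S) (θ : S →* Ω')
    (hK : F.StronglyClosed (kerAlong θ)) : Cfsg.FusionSystem θ.range where
  Hom P' := {φ' | P' ≤ θ.range ∧ ∃ φ ∈ F.Hom (preimageAlong θ P'), InducedAlong θ φ φ'}
  le_of_mem := by
    rintro P' φ' ⟨hP', φ, hφ, hi⟩
    refine ⟨hP', fun y => ?_⟩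
    obtain ⟨x, hx⟩ := hP' y.2
    have hy : θ x ∈ P' := hx ▸ y.2
    have e : y = ⟨θ x, hy⟩ := Subtype.ext hx.symm
    rw [e, induced_apply hi ⟨x, mem_preimageAlong.2 ⟨x.2, hy⟩⟩ x.2 hy (map_mem hφ _)]
    exact ⟨_, rfl⟩
  injective_of_mem := by
    rintro P' φ' ⟨hP', φ, hφ, hi⟩
    rw [injective_iff_map_eq_one]
    intro y hy1
    obtain ⟨x, hx⟩ := hP' y.2
    have hy : θ x ∈ P' := hx ▸ y.2
    have e : y = ⟨θ x, hy⟩ := Subtype.ext hx.symm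
    rw [e, induced_apply hi ⟨x, mem_preimageAlong.2 ⟨x.2, hy⟩⟩ x.2 hy (map_mem hφ _)] at hy1
    have h1 : φ ⟨x, mem_preimageAlong.2 ⟨x.2, hy⟩⟩ ∈ kerAlong θ :=
      mem_kerAlong.2 ⟨map_mem hφ _, hy1⟩
    obtain ⟨_, h2⟩ := mem_kerAlong.1 ((stronglyClosed_apply_iff hK hφ _).1 h1)
    exact Subtype.ext (hx.symm.trans h2)
  conj_mem := by
    rintro P' g hP' ⟨s, rfl⟩
    refine ⟨hP', _, F.conj_mem (preimageAlong_le P') s.2, preimageAlong_le P',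
      map_mem (F.conj_mem (preimageAlong_le P') s.2), fun x => (mem_preimageAlong.1 x.2).2, fun x => ?_⟩
    show θ s * θ ⟨x, preimageAlong_le P' x.2⟩ * (θ s)⁻¹ = θ _
    rw [← map_inv, ← map_mul, ← map_mul]
    exact congrArg θ (Subtype.ext rfl)
  comp_mem := by
    rintro P' Q' φ' ψ' ⟨hP', φ, hφ, hi⟩ ⟨-, ψ, hψ, hj⟩ h
    have hm : ∀ x : preimageAlong θ P', φ x ∈ preimageAlong θ Q' := fun x => by
      obtain ⟨hxS, hxP⟩ := mem_preimageAlong.1 x.2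
      refine mem_preimageAlong.2 ⟨map_mem hφ x, ?_⟩
      rw [← induced_apply hi x hxS hxP]
      exact h _
    refine ⟨hP', _, F.comp_mem hφ hψ hm, preimageAlong_le P', map_mem (F.comp_mem hφ hψ hm),
      fun x => (mem_preimageAlong.1 x.2).2, fun x => ?_⟩
    obtain ⟨hxS, hxP⟩ := mem_preimageAlong.1 x.2
    have e : φ'.codRestrict Q' h ⟨θ ⟨x, hxS⟩, hxP⟩
        = ⟨θ ⟨φ x, map_mem hφ x⟩, (mem_preimageAlong.1 (hm x)).2⟩ :=
      Subtype.ext (induced_apply hi x hxS hxP _)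
    show ψ' (φ'.codRestrict Q' h ⟨θ ⟨x, hxS⟩, hxP⟩) = θ _
    rw [e]
    exact induced_apply hj ⟨φ x, hm x⟩ _ _ _
  inv_mem := by
    rintro P' φ' ⟨hP', φ, hφ, hi⟩
    obtain ⟨ψ, hψ, hinv⟩ := F.inv_mem hφ
    have hr : preimageAlong θ φ'.range = φ.range :=
      range_eq_preimageAlong_range hK hφ (kerAlong_le_preimageAlong P')
        (imageAlong_preimageAlong hP').symm hi
    have hψ' := restrict_mem hψ hr.le
    have hker : ∀ x : preimageAlong θ φ'.range, θ ⟨x, preimageAlong_le _ x.2⟩ = 1 →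
        θ ⟨_, map_mem hψ' x⟩ = 1 := fun x h1 => by
      have := (stronglyClosed_apply_iff hK hψ' x).2 (mem_kerAlong.2 ⟨_, h1⟩)
      exact (mem_kerAlong.1 this).2
    obtain ⟨χ, hχ⟩ := exists_induced (preimageAlong_le φ'.range) (map_mem hψ') hker
    have hr' : φ'.range ≤ θ.range := by
      rintro _ ⟨⟨y, hy⟩, rfl⟩
      obtain ⟨x, rfl⟩ := hP' hy
      rw [induced_apply hi ⟨x, mem_preimageAlong.2 ⟨x.2, hy⟩⟩ x.2 hy (map_mem hφ _)]
      exact ⟨_, rfl⟩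
    have him : φ'.range ≤ imageAlong θ (preimageAlong θ φ'.range) := (imageAlong_preimageAlong hr').ge
    refine ⟨χ.comp (Subgroup.inclusion him), ⟨hr', _, hψ', preimageAlong_le _, map_mem hψ',
      fun x => (mem_preimageAlong.1 x.2).2, fun x => induced_apply hχ x _ _ _⟩, ?_⟩
    rintro ⟨y, hy⟩
    obtain ⟨x, rfl⟩ := hP' hy
    have hxP : (x : Ω) ∈ preimageAlong θ P' := mem_preimageAlong.2 ⟨x.2, hy⟩
    have hz : φ ⟨x, hxP⟩ ∈ preimageAlong θ φ'.range := hr.ge ⟨_, rfl⟩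
    show χ (Subgroup.inclusion him ⟨φ' ⟨θ x, hy⟩, _⟩) = θ x
    have e : Subgroup.inclusion him ⟨φ' ⟨θ x, hy⟩, ⟨_, rfl⟩⟩
        = ⟨θ ⟨φ ⟨x, hxP⟩, map_mem hφ _⟩, apply_mem_imageAlong _ hz⟩ :=
      Subtype.ext (induced_apply hi ⟨x, hxP⟩ x.2 hy _)
    rw [e, induced_apply hχ ⟨_, hz⟩ _ _ (map_mem hψ' _)]
    exact congrArg θ (Subtype.ext (hinv ⟨x, hxP⟩))

theorem factorSystem_isFactorSystem [Finite S] (F : Cfsg.FusionSystem S) (θ : S →* Ω')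
    (hK : F.StronglyClosed (kerAlong θ)) :
    F.IsFactorSystem (kerAlong θ) θ (factorSystem F θ hK) :=
  ⟨hK.1, fun s => ⟨fun h => mem_kerAlong.2 ⟨s.2, h⟩, fun h => (mem_kerAlong.1 h).2⟩, rfl,
    fun _ _ => Iff.rfl⟩

theorem exists_factorSystem [Finite S] (F : Cfsg.FusionSystem S) (θ : S →* Ω') {S₀ : Subgroup Ω}
    {S' : Subgroup Ω'} (hS' : θ.range = S') (hθ : ∀ s : S, θ s = 1 ↔ (s : Ω) ∈ S₀)
    (hS₀ : F.StronglyClosed S₀) : ∃ E : Cfsg.FusionSystem S', F.IsFactorSystem S₀ θ E := by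
  subst hS'
  have := kerAlong_eq hS₀.1 hθ
  subst this
  exact ⟨_, factorSystem_isFactorSystem F θ hS₀⟩

theorem exists_factorSystem_quotient [Finite S] (F : Cfsg.FusionSystem S) (S₀ : Subgroup Ω)
    (hS₀ : F.StronglyClosed S₀) [(S₀.subgroupOf S).Normal] :
    ∃ E : Cfsg.FusionSystem (⊤ : Subgroup (S ⧸ S₀.subgroupOf S)),
      F.IsFactorSystem S₀ (QuotientGroup.mk' (S₀.subgroupOf S)) E :=
  exists_factorSystem F _ (MonoidHom.range_eq_top.2 (QuotientGroup.mk'_surjective _))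
    (fun s => (QuotientGroup.eq_one_iff s).trans Subgroup.mem_subgroupOf) hS₀

end CfsgLib.FusionQuot
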