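import Cfsg.Agent.Lib.Fusion.Saturation
import Cfsg.Agent.Lib.FusionQuot.Factor

/-!
Subsystems over strongly closed subgroups and invariant subsystems: fully normalized subgroups, transport
of automorphism groups, normality of `Aut_E(P)` in `Aut_F(P)`.
-/
set_option autoImplicit false

namespace CfsgLib.FusionQuot

open Cfsg Cfsg.FusionSystem CfsgLib.Fusion

variable {Ω : Type*} [Group Ω] {S T : Subgroup Ω} {F : Cfsg.FusionSystem S} {E : Cfsg.FusionSystem T}
variable {p : ℕ} {P : Subgroup Ω}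

theorem isConj_of_subsystem (hsub : E.IsSubsystemOf F) {Q : Subgroup Ω} (h : E.IsConj P Q) :
    F.IsConj P Q := by
  obtain ⟨φ, hφ, hr⟩ := h
  exact ⟨φ, hsub P hφ, hr⟩

theorem isFIso_of_subsystem (hsub : E.IsSubsystemOf F) {Q : Subgroup Ω} {e : P ≃* Q} (h : IsFIso E e) :
    IsFIso F e :=
  hsub P h

theorem autGroup_le_of_subsystem (hsub : E.IsSubsystemOf F) (P : Subgroup Ω) :
    E.autGroup P ≤ F.autGroup P :=
  Subgroup.closure_mono fun α hα => hsub P hα

/-- A subgroup fully normalized in a saturated system is fully normalized in every subsystem over a strongly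
closed subgroup containing it. -/
theorem isFullyNormalized_of_subsystem [Finite S] [Fact p.Prime] (hS : IsPGroup p S)
    (hF : F.IsSaturated p) (hT : F.StronglyClosed T) (hsub : E.IsSubsystemOf F) (hPT : P ≤ T)
    (hP : F.IsFullyNormalized P) : E.IsFullyNormalized P := by
  refine ⟨hPT, fun Q hQ => ?_⟩
  obtain ⟨e, -, ψ, hψ, hψN, -⟩ :=
    exists_normalizer_map hS hF hP (isConj_symm (isConj_of_subsystem hsub hQ))
  have hle : normalizerIn T Q ≤ normalizerIn S Q := inf_le_inf_right _ hT.1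
  have : Finite T := finite_of_le hT.1
  have : Finite (normalizerIn T P) := finite_of_le (normalizerIn_le T P)
  refine Nat.card_le_card_of_injective (fun x => (⟨ψ (Subgroup.inclusion hle x),
    (stronglyClosed_apply_iff hT hψ (Subgroup.inclusion hle x)).2 x.2.1, (hψN _).2⟩ :
      normalizerIn T P)) fun a b hab => ?_
  exact Subgroup.inclusion_injective hle (hom_inj hψ (Subtype.ext_iff.1 hab :))

/-- Invariance in isomorphism form: `Aut_F(T)` transports the isomorphisms of `E`. -/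
theorem isFIso_transport (hinv : E.IsInvariantIn F) {X Y X' Y' : Subgroup Ω} {e : X ≃* Y}
    (he : IsFIso E e) (α : MulAut T) (hα : α ∈ F.autGroup T) (e' : X' ≃* Y')
    (hX' : (X.subgroupOf T).map (T.subtype.comp α.toMonoidHom) = X')
    (h : ∀ (x : X) (hxT : (x : Ω) ∈ T) (hy : (e x : Ω) ∈ T) (hx' : ((α ⟨x, hxT⟩ : T) : Ω) ∈ X'),
      (e' ⟨_, hx'⟩ : Ω) = ((α ⟨e x, hy⟩ : T) : Ω)) : IsFIso E e' := by
  obtain ⟨χ, hχ, hχeq⟩ := hinv.2.2.1 X he.le_left _ he α hα
  subst hX'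
  have heq : Y'.subtype.comp e'.toMonoidHom = χ := by
    refine MonoidHom.ext ?_
    rintro ⟨y, hy⟩
    obtain ⟨⟨x, hxT⟩, hx, rfl⟩ := Subgroup.mem_map.1 hy
    exact (h ⟨x, hx⟩ hxT (he.le_right (e _).2) hy).trans
      (hχeq ⟨x, hx⟩ (he.le_right (e _).2) hy).symm
  show _ ∈ E.Hom _
  rw [heq]
  exact hχ

/-- `Aut_E(P)` is normal in `Aut_F(P)` for an invariant subsystem. -/
theorem conj_mem_autGroup_of_invariant (hinv : E.IsInvariantIn F) (hPT : P ≤ T) {β : MulAut P}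
    (hβ : β ∈ F.autGroup P) {γ : MulAut P} (hγ : γ ∈ E.autGroup P) :
    β * γ * β⁻¹ ∈ E.autGroup P := by
  have hPS : P ≤ S := hPT.trans hinv.2.1.1
  obtain ⟨α, hα, φ₀, hφ₀, heq⟩ := hinv.2.2.2 P hPT _ ((mem_autGroup_iff_hom hPS).1 hβ)
  obtain ⟨f, hf, hfx⟩ := exists_iso hφ₀ rfl
  have hβx : ∀ (x : P) (hx : (f x : Ω) ∈ T),
      ((β x : P) : Ω) = ((α ⟨(f x : Ω), hx⟩ : T) : Ω) := fun x hx => by
    have := heq x (hfx x ▸ hx)
    simpa [hfx] using this
  have hγ' : IsFIso E ((f.symm.trans (γ : P ≃* P)).trans f) :=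
    (hf.symm.trans ((mem_autGroup_iff hPT).1 hγ)).trans hf
  have hmap : (φ₀.range.subgroupOf T).map (T.subtype.comp α.toMonoidHom) = P := by
    ext y
    constructor
    · rintro ⟨⟨z, hzT⟩, ⟨x, rfl⟩, rfl⟩
      show ((α ⟨φ₀ x, hzT⟩ : T) : Ω) ∈ P
      rw [← heq x hzT]
      exact (β x).2
    · intro hy
      have hm : φ₀ (β⁻¹ ⟨y, hy⟩) ∈ T := map_mem hφ₀ _
      refine ⟨⟨_, hm⟩, ⟨_, rfl⟩, ?_⟩
      show ((α ⟨φ₀ (β⁻¹ ⟨y, hy⟩), hm⟩ : T) : Ω) = y
      rw [← heq]
      simp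
  refine (mem_autGroup_iff hPT).2 (isFIso_transport hinv hγ' α hα _ hmap fun z hzT hy hx' => ?_)
  obtain ⟨x, rfl⟩ := f.surjective z
  have h1 : (⟨_, hx'⟩ : P) = β x := Subtype.ext (hβx x hzT).symm
  rw [h1]
  have e3 : ((f.symm.trans (γ : P ≃* P)).trans f) (f x) = f (γ x) := by simp
  simp only [e3] at hy ⊢
  rw [← hβx (γ x) hy, MulAut.mul_apply, MulAut.mul_apply, MulAut.inv_apply_self]

end CfsgLib.FusionQuot
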