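import Cfsg.Prelude.Def_FusionSystem
import Mathlib.Data.Set.Finite.Powerset
import Mathlib.Data.Finite.Defs
import Mathlib.Order.CompleteLattice.Basic

/-!
Joins of subgroups central / normal in a fusion system.
-/
set_option autoImplicit false

namespace CfsgLib.FusionQuot

open Cfsg

variable {Ω : Type*} [Group Ω] {S : Subgroup Ω}

theorem mem_hom_of_le (F : FusionSystem S) {P P' : Subgroup Ω} (h : P ≤ P') {ψ : P' →* Ω}
    (hψ : ψ ∈ F.Hom P') : ψ.comp (Subgroup.inclusion h) ∈ F.Hom P := by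
  have hP : P ≤ S := h.trans (F.le_of_mem hψ).1
  have h1 : conjHom P (1 : Ω) ∈ F.Hom P := F.conj_mem hP S.one_mem
  have h2 : ∀ x : P, conjHom P (1 : Ω) x ∈ P' := fun x => by
    simpa [conjHom] using h x.2
  have h3 := F.comp_mem h1 hψ h2
  have h4 : (conjHom P (1 : Ω)).codRestrict P' h2 = Subgroup.inclusion h := by
    ext x
    simp [conjHom]
  rwa [h4] at h3

theorem finite_subgroups_le [Finite S] : {Q : Subgroup Ω | Q ≤ S}.Finite := by
  have : ((S : Set Ω).powerset).Finite := (Set.toFinite (S : Set Ω)).powerset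
  refine Set.Finite.of_finite_image (f := fun Q : Subgroup Ω => (Q : Set Ω)) (this.subset ?_) ?_
  · rintro _ ⟨Q, hQ, rfl⟩
    exact hQ
  · exact fun a _ b _ h => SetLike.coe_injective h

theorem isCentral_bot (F : FusionSystem S) : F.IsCentral ⊥ := by
  refine ⟨bot_le, fun P φ hφ => ?_⟩
  have h : P ⊔ ⊥ ≤ P := (sup_bot_eq P).le
  refine ⟨φ.comp (Subgroup.inclusion h), mem_hom_of_le F h hφ, fun x => rfl, fun x => ?_⟩
  obtain ⟨x, hx⟩ := x
  obtain rfl : x = 1 := hx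
  exact map_one (φ.comp (Subgroup.inclusion h))

theorem isCentral_sup (F : FusionSystem S) {Q₁ Q₂ : Subgroup Ω} (h₁ : F.IsCentral Q₁)
    (h₂ : F.IsCentral Q₂) : F.IsCentral (Q₁ ⊔ Q₂) := by
  refine ⟨sup_le h₁.1 h₂.1, fun P φ hφ => ?_⟩
  obtain ⟨ψ₁, hψ₁, e₁, f₁⟩ := h₁.2 P φ hφ
  obtain ⟨ψ₂, hψ₂, e₂, f₂⟩ := h₂.2 _ ψ₁ hψ₁
  have h : P ⊔ (Q₁ ⊔ Q₂) ≤ P ⊔ Q₁ ⊔ Q₂ := (sup_assoc P Q₁ Q₂).ge
  refine ⟨ψ₂.comp (Subgroup.inclusion h), mem_hom_of_le F h hψ₂, fun x => ?_, fun x => ?_⟩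
  · rw [← e₁ x, ← e₂]
    rfl
  · let f : ↥(Q₁ ⊔ Q₂) →* Ω :=
      (ψ₂.comp (Subgroup.inclusion h)).comp (Subgroup.inclusion le_sup_right)
    suffices Q₁ ⊔ Q₂ ≤ ((f.eqLocus (Q₁ ⊔ Q₂).subtype).map (Q₁ ⊔ Q₂).subtype) by
      obtain ⟨y, hy, hyx⟩ := Subgroup.mem_map.1 (this x.2)
      obtain rfl : y = x := Subtype.ext hyx
      exact hy
    refine sup_le (fun y hy => ?_) fun y hy => ?_
    · refine Subgroup.mem_map.2 ⟨⟨y, Subgroup.mem_sup_left hy⟩, ?_, rfl⟩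
      show f _ = y
      exact (e₂ ⟨y, Subgroup.mem_sup_right hy⟩).trans (f₁ ⟨y, hy⟩)
    · refine Subgroup.mem_map.2 ⟨⟨y, Subgroup.mem_sup_right hy⟩, ?_, rfl⟩
      show f _ = y
      exact f₂ ⟨y, hy⟩

theorem isNormal_bot (F : FusionSystem S) : F.IsNormal ⊥ := by
  refine ⟨bot_le, fun P φ hφ => ?_⟩
  have h : P ⊔ ⊥ ≤ P := (sup_bot_eq P).le
  refine ⟨φ.comp (Subgroup.inclusion h), mem_hom_of_le F h hφ, fun x => rfl, ?_⟩
  rw [Subgroup.bot_subgroupOf, Subgroup.map_bot]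

theorem mem_of_map_subgroupOf_eq {A B : Subgroup Ω} {ψ : A →* Ω} (h : (B.subgroupOf A).map ψ = B)
    {x : Ω} (hA : x ∈ A) (hB : x ∈ B) : ψ ⟨x, hA⟩ ∈ B :=
  h.le (Subgroup.mem_map_of_mem ψ (Subgroup.mem_subgroupOf.2 hB))

theorem exists_of_map_subgroupOf_eq {A B : Subgroup Ω} {ψ : A →* Ω} (h : (B.subgroupOf A).map ψ = B)
    {y : Ω} (hy : y ∈ B) : ∃ x : A, (x : Ω) ∈ B ∧ ψ x = y := by
  rw [← h] at hy
  obtain ⟨x, hx, rfl⟩ := Subgroup.mem_map.1 hy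
  exact ⟨x, hx, rfl⟩

theorem isNormal_sup (F : FusionSystem S) {Q₁ Q₂ : Subgroup Ω} (h₁ : F.IsNormal Q₁)
    (h₂ : F.IsNormal Q₂) : F.IsNormal (Q₁ ⊔ Q₂) := by
  refine ⟨sup_le h₁.1 h₂.1, fun P φ hφ => ?_⟩
  obtain ⟨ψ₁, hψ₁, e₁, f₁⟩ := h₁.2 P φ hφ
  obtain ⟨ψ₂, hψ₂, e₂, f₂⟩ := h₂.2 _ ψ₁ hψ₁
  have h : P ⊔ (Q₁ ⊔ Q₂) ≤ P ⊔ Q₁ ⊔ Q₂ := (sup_assoc P Q₁ Q₂).ge
  set ψ := ψ₂.comp (Subgroup.inclusion h) with hψ
  refine ⟨ψ, mem_hom_of_le F h hψ₂, fun x => ?_, le_antisymm ?_ ?_⟩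
  · rw [← e₁ x, ← e₂]
    rfl
  · rw [Subgroup.map_le_iff_le_comap]
    suffices Q₁ ⊔ Q₂ ≤ ((Q₁ ⊔ Q₂).comap ψ).map (P ⊔ (Q₁ ⊔ Q₂)).subtype by
      intro x hx
      obtain ⟨y, hy, hyx⟩ := Subgroup.mem_map.1 (this (Subgroup.mem_subgroupOf.1 hx))
      obtain rfl : y = x := Subtype.ext hyx
      exact hy
    refine sup_le (fun y hy => ?_) fun y hy => ?_
    · have hy' : y ∈ P ⊔ (Q₁ ⊔ Q₂) := Subgroup.mem_sup_right (Subgroup.mem_sup_left hy)
      refine Subgroup.mem_map.2 ⟨⟨y, hy'⟩, ?_, rfl⟩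
      refine Subgroup.mem_comap.2 (Subgroup.mem_sup_left ?_)
      have := mem_of_map_subgroupOf_eq f₁ (Subgroup.mem_sup_right hy) hy
      rw [← e₂] at this
      exact this
    · have hy' : y ∈ P ⊔ (Q₁ ⊔ Q₂) := Subgroup.mem_sup_right (Subgroup.mem_sup_right hy)
      refine Subgroup.mem_map.2 ⟨⟨y, hy'⟩, ?_, rfl⟩
      exact Subgroup.mem_comap.2 (Subgroup.mem_sup_right (mem_of_map_subgroupOf_eq f₂ _ hy))
  · refine sup_le (fun y hy => ?_) fun y hy => ?_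
    · obtain ⟨x, hx, rfl⟩ := exists_of_map_subgroupOf_eq f₁ hy
      refine Subgroup.mem_map.2 ⟨⟨x, Subgroup.mem_sup_right (Subgroup.mem_sup_left hx)⟩, ?_, ?_⟩
      · exact Subgroup.mem_subgroupOf.2 (Subgroup.mem_sup_left hx)
      · exact e₂ x
    · obtain ⟨x, hx, rfl⟩ := exists_of_map_subgroupOf_eq f₂ hy
      refine Subgroup.mem_map.2 ⟨⟨x, Subgroup.mem_sup_right (Subgroup.mem_sup_right hx)⟩, ?_, rfl⟩
      exact Subgroup.mem_subgroupOf.2 (Subgroup.mem_sup_right hx)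

theorem isCentral_center [Finite S] (F : FusionSystem S) : F.IsCentral F.center := by
  have hfin : {Q : Subgroup Ω | F.IsCentral Q}.Finite :=
    finite_subgroups_le.subset fun Q hQ => hQ.1
  suffices H : ∀ s : Set (Subgroup Ω), s.Finite → (∀ Q ∈ s, F.IsCentral Q) → F.IsCentral (sSup s) from
    H _ hfin fun Q hQ => hQ
  intro s hs
  induction s, hs using Set.Finite.induction_on with
  | empty => intro _; rw [sSup_empty]; exact isCentral_bot F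
  | @insert a t _ _ ih =>
    intro hall
    rw [sSup_insert]
    exact isCentral_sup F (hall a (Set.mem_insert a t))
      (ih fun Q hQ => hall Q (Set.mem_insert_of_mem a hQ))

theorem isNormal_core [Finite S] (F : FusionSystem S) : F.IsNormal F.core := by
  have hfin : {Q : Subgroup Ω | F.IsNormal Q}.Finite :=
    finite_subgroups_le.subset fun Q hQ => hQ.1
  suffices H : ∀ s : Set (Subgroup Ω), s.Finite → (∀ Q ∈ s, F.IsNormal Q) → F.IsNormal (sSup s) from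
    H _ hfin fun Q hQ => hQ
  intro s hs
  induction s, hs using Set.Finite.induction_on with
  | empty => intro _; rw [sSup_empty]; exact isNormal_bot F
  | @insert a t _ _ ih =>
    intro hall
    rw [sSup_insert]
    exact isNormal_sup F (hall a (Set.mem_insert a t))
      (ih fun Q hQ => hall Q (Set.mem_insert_of_mem a hQ))

theorem le_core (F : FusionSystem S) {Q : Subgroup Ω} (hQ : F.IsNormal Q) : Q ≤ F.core :=
  le_sSup hQ

theorem le_center (F : FusionSystem S) {Q : Subgroup Ω} (hQ : F.IsCentral Q) : Q ≤ F.center :=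
  le_sSup hQ

theorem core_le (F : FusionSystem S) : F.core ≤ S := sSup_le fun _ h => h.1

theorem center_le (F : FusionSystem S) : F.center ≤ S := sSup_le fun _ h => h.1

end CfsgLib.FusionQuot
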