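import Cfsg.Agent.Lib.FusionQuot.ModExtension
import Cfsg.Agent.Lib.FusionQuot.Joins

/-!
A strongly closed subgroup with a central series of strongly closed subgroups is normal in a saturated
system.
-/
set_option autoImplicit false

namespace CfsgLib.FusionQuot

open Cfsg Cfsg.FusionSystem CfsgLib.Fusion

variable {Ω : Type*} [Group Ω] {S : Subgroup Ω} {F : Cfsg.FusionSystem S} {p : ℕ} {A : Subgroup Ω}

/-- A normal `p`-subgroup lies in every Sylow subgroup. -/
theorem mem_sylow_of_normal {G : Type*} [Group G] [Finite G] [Fact p.Prime] (T : Sylow p G)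
    {K : Subgroup G} [hKn : K.Normal] (hK : IsPGroup p K) : K ≤ (T : Subgroup G) := by
  obtain ⟨g, hg⟩ := exists_conj_le_sylow T hK
  intro x hx
  have h := hg (g⁻¹ * x * g) (by simpa using hKn.conj_mem x hx g⁻¹)
  simpa [mul_assoc] using h

theorem pow_apply_of_moves_to_fixed {G : Type*} [Group G] (β : MulAut G) (x : G)
    (hx : β (x⁻¹ * β x) = x⁻¹ * β x) : ∀ m : ℕ, (β ^ m) x = x * (x⁻¹ * β x) ^ m := by
  intro m
  induction m with
  | zero => simp
  | succ m ih =>
    rw [pow_succ', MulAut.mul_apply, ih, map_mul, map_pow, hx, pow_succ' (x⁻¹ * β x) m, ← mul_assoc,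
      mul_inv_cancel_left]

/-- An automorphism stabilising a series of a finite `p`-group has `p`-power order. -/
theorem exists_pow_eq_one_of_series [Fact p.Prime] {G : Type*} [Group G] [Finite G] (hG : IsPGroup p G)
    (A : ℕ → Subgroup G) (n : ℕ) (h₀ : A 0 = ⊤) (hn : A n = ⊥) (hmono : ∀ i < n, A (i + 1) ≤ A i)
    (α : MulAut G) (hi : ∀ i < n, ∀ x ∈ A i, x⁻¹ * α x ∈ A (i + 1)) :
    ∃ k : ℕ, α ^ p ^ k = 1 := by
  obtain ⟨e, he⟩ := IsPGroup.iff_card.1 hG
  have stable : ∀ i ≤ n, ∀ x ∈ A i, α x ∈ A i := by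
    intro i hin x hx
    rcases hin.eq_or_lt with rfl | hlt
    · rw [hn, Subgroup.mem_bot] at hx ⊢
      rw [hx, map_one]
    · simpa using (A i).mul_mem hx (hmono i hlt (hi i hlt x hx))
  have layer : ∀ i < n, ∀ x ∈ A i, ∀ m : ℕ, x⁻¹ * (α ^ m) x ∈ A (i + 1) := by
    intro i hin x hx m
    induction m with
    | zero => simp
    | succ m ih =>
      have h1 := hi i hin x hx
      have h2 := stable (i + 1) hin _ ih
      have := (A (i + 1)).mul_mem h1 h2
      rw [map_mul, map_inv, mul_assoc, mul_inv_cancel_left, ← MulAut.mul_apply, ← pow_succ'] at this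
      exact this
  have step : ∀ j ≤ n, ∃ k : ℕ, ∀ x ∈ A (n - j), (α ^ p ^ k) x = x := by
    intro j
    induction j with
    | zero =>
      intro _
      refine ⟨0, fun x hx => ?_⟩
      rw [Nat.sub_zero, hn, Subgroup.mem_bot] at hx
      rw [hx, map_one]
    | succ j ih =>
      intro hj
      obtain ⟨k, hk⟩ := ih (by omega)
      refine ⟨k + e, fun x hx => ?_⟩
      have hmv := layer (n - (j + 1)) (by omega) x hx (p ^ k)
      rw [show n - (j + 1) + 1 = n - j by omega] at hmv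
      rw [pow_add, pow_mul, pow_apply_of_moves_to_fixed _ x (hk _ hmv), ← he, pow_card_eq_one', mul_one]
  obtain ⟨k, hk⟩ := step n le_rfl
  refine ⟨k, MulEquiv.ext fun x => ?_⟩
  rw [hk x (by rw [Nat.sub_self, h₀]; trivial)]
  rfl

/-- A strongly closed subgroup with a central series of strongly closed subgroups is normal. -/
theorem isNormal_of_series [Finite S] [Fact p.Prime] (hS : IsPGroup p S) (hF : F.IsSaturated p)
    (A : ℕ → Subgroup Ω) (n : ℕ) (hn : A n = ⊥) (hmono : ∀ i < n, A (i + 1) ≤ A i)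
    (hsc : ∀ i ≤ n, F.StronglyClosed (A i))
    (hcomm : ∀ i < n, ⁅A 0, A i⁆ ≤ A (i + 1)) : F.IsNormal (A 0) := by
  have hA : F.StronglyClosed (A 0) := hsc 0 (Nat.zero_le _)
  let C : ∀ P : Subgroup Ω, (P →* Ω) → Prop := fun P φ =>
    ∃ χ ∈ F.Hom (P ⊔ A 0), ∀ x : P, χ (Subgroup.inclusion le_sup_left x) = φ x
  suffices h : ∀ (P : Subgroup Ω) (φ : P →* Ω), φ ∈ F.Hom P → C P φ by
    refine ⟨hA.1, fun P φ hφ => ?_⟩
    obtain ⟨χ, hχ, hag⟩ := h P φ hφ
    refine ⟨χ, hχ, hag, le_antisymm ?_ fun y hy => ?_⟩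
    · rintro _ ⟨x, hx, rfl⟩
      exact (stronglyClosed_apply_iff hA hχ x).2 hx
    · obtain ⟨x, rfl⟩ := le_range_of_le hA hχ le_sup_right hy
      exact ⟨x, (stronglyClosed_apply_iff hA hχ x).1 hy, rfl⟩
  refine hom_induction hS hF C ?_ ?_ ?_ ?_ ?_
  · rintro P Q φ - h χ hχ ⟨ψ, hψ, hag⟩
    exact ⟨_, restrict_mem hψ (sup_le_sup_right h (A 0)), fun x => (hag ⟨x, h x.2⟩).trans (hχ x).symm⟩
  · rintro P Q φ ψ hφ - h χ hχ ⟨φ', hφ', hφa⟩ ⟨ψ', hψ', hψa⟩
    have hm : ∀ z : ↥(P ⊔ A 0), φ' z ∈ Q ⊔ A 0 := fun z => by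
      obtain ⟨x, hx, a, ha, hz⟩ := exists_mul_of_mem_sup hA (dom_le hφ) z.2
      have e : z = Subgroup.inclusion le_sup_left ⟨x, hx⟩ * ⟨a, Subgroup.mem_sup_right ha⟩ :=
        Subtype.ext hz
      rw [e, map_mul, hφa]
      exact Subgroup.mul_mem _ (Subgroup.mem_sup_left (h _))
        (Subgroup.mem_sup_right ((stronglyClosed_apply_iff hA hφ' _).2 ha))
    refine ⟨_, F.comp_mem hφ' hψ' hm, fun x => ?_⟩
    rw [hχ x, ← hψa ⟨φ x, h x⟩]
    exact congrArg ψ' (Subtype.ext (hφa x))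
  · rintro P φ hφ Q rfl ψ hψ hinv ⟨φ', hφ', hφa⟩
    obtain ⟨ψ', hψ', hinv'⟩ := F.inv_mem hφ'
    have hle : φ.range ⊔ A 0 ≤ φ'.range := by
      refine sup_le ?_ (le_range_of_le hA hφ' le_sup_right)
      rintro _ ⟨x, rfl⟩
      exact ⟨_, hφa x⟩
    refine ⟨_, restrict_mem hψ' hle, ?_⟩
    rintro ⟨_, x, rfl⟩
    rw [hinv x ⟨x, rfl⟩]
    refine Eq.trans (congrArg ψ' (Subtype.ext ?_)) (hinv' (Subgroup.inclusion le_sup_left x))
    exact (hφa x).symm
  · intro φ hφ
    exact ⟨_, restrict_mem hφ (sup_le le_rfl hA.1), fun x => rfl⟩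
  · intro Q hQ hQS ih α hα
    by_cases hAQ : A 0 ≤ Q
    · exact ⟨_, restrict_mem ((mem_autGroup_iff_hom hQ.1).1 hα) (sup_le le_rfl hAQ), fun x => rfl⟩
    have : Finite Q := finite_of_le hQ.1
    have : Finite (MulAut Q) := finite_mulAut
    have hpres : ∀ (β : F.autGroup Q) (i : ℕ), i ≤ n → ∀ x : Q,
        (((β : MulAut Q) x : Q) : Ω) ∈ A i ↔ (x : Ω) ∈ A i := fun β i hi x =>
      stronglyClosed_apply_iff (hsc i hi) ((mem_autGroup_iff_hom hQ.1).1 β.2) x
    let K : Subgroup (F.autGroup Q) :=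
      { carrier := {κ | (∀ x : Q, (x : Ω)⁻¹ * ((κ : MulAut Q) x : Q) ∈ A 0) ∧
          ∀ i < n, ∀ x : Q, (x : Ω) ∈ A i → (x : Ω)⁻¹ * ((κ : MulAut Q) x : Q) ∈ A (i + 1)}
        one_mem' := ⟨fun x => by simp, fun i _ x _ => by simp⟩
        mul_mem' := fun {a b} ha hb =>
          ⟨fun x => inv_mul_mem_trans (hb.1 x) (ha.1 _),
            fun i hi x hx => inv_mul_mem_trans (hb.2 i hi x hx)
              (ha.2 i hi _ ((hpres b i hi.le x).2 hx))⟩
        inv_mem' := fun {a} ha =>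
          ⟨fun x => by simpa using inv_mul_mem_symm (ha.1 ((a⁻¹ : MulAut Q) x)),
            fun i hi x hx => by
              simpa using inv_mul_mem_symm
                (ha.2 i hi ((a⁻¹ : MulAut Q) x) ((hpres a⁻¹ i hi.le x).2 hx))⟩ }
    have hKn : K.Normal := ⟨fun κ hκ β =>
      ⟨fun x => by
        have h1 := apply_inv_mul_mem hA ((mem_autGroup_iff_hom hQ.1).1 β.2)
          (x := (β⁻¹ : MulAut Q) x) (hκ.1 ((β⁻¹ : MulAut Q) x))
        simpa using h1,
       fun i hi x hx => by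
        have h1 := apply_inv_mul_mem (hsc (i + 1) hi) ((mem_autGroup_iff_hom hQ.1).1 β.2)
          (x := (β⁻¹ : MulAut Q) x) (hκ.2 i hi ((β⁻¹ : MulAut Q) x) ((hpres β⁻¹ i hi.le x).2 hx))
        simpa using h1⟩⟩
    have hKA : ∀ g (hg : g ∈ Subgroup.normalizer (Q : Set Ω)) (hgA : g ∈ A 0),
        (⟨conjAut Q g hg, autInducedBy_le_autGroup F hQ.1 (conjAut_mem_autInducedBy (hA.1 hgA) hg)⟩ :
          F.autGroup Q) ∈ K := fun g hg hgA =>
      ⟨fun x => by
        show (x : Ω)⁻¹ * (g * x * g⁻¹) ∈ A 0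
        have h1 := (Subgroup.mem_normalizer_iff.1
          (Subgroup.inv_mem _ (le_normalizer_of_stronglyClosed hA hQ.1 x.2)) g).1 hgA
        simpa [mul_assoc] using (A 0).mul_mem h1 ((A 0).inv_mem hgA),
       fun i hi x hx => by
        show (x : Ω)⁻¹ * (g * x * g⁻¹) ∈ A (i + 1)
        have h1 := hcomm i hi (Subgroup.commutator_mem_commutator hgA ((A i).inv_mem hx))
        rw [commutatorElement_def] at h1
        simpa [mul_assoc] using (A (i + 1)).inv_mem h1⟩
    have hKp : IsPGroup p K := by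
      intro κ
      let B : ℕ → Subgroup Q := fun i => match i with
        | 0 => ⊤
        | j + 1 => (A j).subgroupOf Q
      obtain ⟨k, hk⟩ := exists_pow_eq_one_of_series (G := Q) (isPGroup_of_le hS hQ.1) B (n + 1) rfl
        (by show (A n).subgroupOf Q = ⊥; rw [hn, Subgroup.bot_subgroupOf])
        (by
          intro i hi
          match i with
          | 0 => exact le_top
          | j + 1 => exact Subgroup.comap_mono (hmono j (by omega)))
        ((κ : F.autGroup Q) : MulAut Q)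
        (by
          intro i hi x hx
          match i with
          | 0 => exact Subgroup.mem_subgroupOf.2 (κ.2.1 x)
          | j + 1 => exact Subgroup.mem_subgroupOf.2 (κ.2.2 j (by omega) x (Subgroup.mem_subgroupOf.1 hx)))
      exact ⟨k, Subtype.ext (Subtype.ext (by simpa using hk))⟩
    obtain ⟨κ, hκ, β, hαβ, V, hQV, hVS, hV, ψ, hψ, hψβ⟩ :=
      exists_extending_factor hS hF hQ hA hAQ K hKA ⟨α, hα⟩
    obtain ⟨T, hT⟩ := (isFullyAutomized_of_isFullyNormalized hS hF hQ).2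
    have hκT := mem_sylow_of_normal T hKp hκ
    rw [hT, Subgroup.mem_subgroupOf, mem_autInducedBy_iff] at hκT
    obtain ⟨g, hg, hgx⟩ := hκT
    obtain ⟨χ, hχ, hag⟩ := ih V ψ hψ (card_lt_of_lt hQV hVS)
    refine ⟨_, conj_comp_mem (restrict_mem hχ (sup_le_sup_right hV (A 0))) hg, fun x => ?_⟩
    have h2 : α x = (κ : MulAut Q) ((β : MulAut Q) x) :=
      congrArg (fun γ : F.autGroup Q => (γ : MulAut Q) x) hαβ
    show g * χ _ * g⁻¹ = ((α x : Q) : Ω)
    rw [h2, hgx, ← hψβ x, ← hag ⟨x, hV x.2⟩]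
    rfl

/-- A strongly closed abelian subgroup is normal in a saturated system. -/
theorem isNormal_of_abelian [Finite S] [Fact p.Prime] (hS : IsPGroup p S) (hF : F.IsSaturated p)
    (hA : F.StronglyClosed A) (hab : ⁅A, A⁆ = ⊥) : F.IsNormal A := by
  let B : ℕ → Subgroup Ω := fun i => if i = 0 then A else ⊥
  have hbot : F.StronglyClosed ⊥ := ⟨bot_le, fun R hR φ _ x => by
    obtain rfl : x = 1 := Subtype.ext (Subgroup.mem_bot.1 (hR x.2))
    simp⟩
  have := isNormal_of_series hS hF B 1 rfl (fun i _ => by simp [B])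
    (fun i _ => by by_cases h : i = 0 <;> simp [B, h, hA, hbot])
    (fun i hi => by obtain rfl : i = 0 := by omega
                    simp [B, hab])
  simpa [B] using this

end CfsgLib.FusionQuot
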