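import Cfsg.Agent.Lib.Fusion.Centric
import Cfsg.Agent.Lib.Fusion.Group
import Cfsg.Agent.Lib.FusionQuot.Invariant

/-!
A criterion for simplicity of a saturated fusion system.
-/
set_option autoImplicit false

namespace CfsgLib.FusionQuot

open Cfsg Cfsg.FusionSystem CfsgLib.Fusion

variable {Ω : Type*} [Group Ω] {S : Subgroup Ω} {F E : Cfsg.FusionSystem S} {p : ℕ}

theorem hom_eq_of_autGroup_top_le (hinv : E.IsInvariantIn F) (h : F.autGroup S ≤ E.autGroup S)
    (P : Subgroup Ω) : E.Hom P = F.Hom P := by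
  refine Set.Subset.antisymm (hinv.1 P) fun φ hφ => ?_
  obtain ⟨α, hα, φ₀, hφ₀, heq⟩ := hinv.2.2.2 P (dom_le hφ) φ hφ
  exact mem_of_comp hφ₀ ((mem_autGroup_iff_hom le_rfl).1 (h hα)) (map_mem hφ₀) φ
    fun x => heq x (map_mem hφ₀ x)

theorem isCentric_of_subsystem (hsub : E.IsSubsystemOf F) {R : Subgroup Ω} (hR : F.IsCentric R) :
    E.IsCentric R :=
  ⟨hR.1, fun Q hQ => hR.2 Q (isConj_of_subsystem hsub hQ)⟩

/-- An automorphism of `S` lies in a saturated subsystem as soon as its restriction to an invariant centric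
subgroup does. -/
theorem mem_of_restrict_centric [Finite S] [Fact p.Prime] (hS : IsPGroup p S) (hF : F.IsSaturated p)
    (hE : E.IsSaturated p) (hsub : E.IsSubsystemOf F) {α : MulAut S} (hα : α ∈ F.autGroup S)
    {R : Subgroup Ω} (hR : F.IsCentric R)
    (hαR : ∀ x : S, ((α x : S) : Ω) ∈ R ↔ (x : Ω) ∈ R)
    (hres : IsFIso E (restrictIso (α : S ≃* S) hR.1 hR.1 hαR)) : α ∈ E.autGroup S := by
  induction hn : Nat.card S - Nat.card R using Nat.strong_induction_on generalizing R with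
  | _ n ih =>
  rcases hR.1.eq_or_lt with rfl | hlt
  · refine (mem_autGroup_iff le_rfl).2 ?_
    exact IsFIso.restrict hres le_rfl _ fun x => rfl
  set N := normalizerIn S R with hN
  have hNS : N ≤ S := normalizerIn_le S R
  have hfwd : ∀ (β : MulAut S), (∀ x : S, ((β x : S) : Ω) ∈ R ↔ (x : Ω) ∈ R) →
      ∀ x : S, (x : Ω) ∈ N → ((β x : S) : Ω) ∈ N := by
    intro β hβ x hx
    refine ⟨(β x).2, Subgroup.mem_normalizer_iff.2 fun r => ⟨fun hr => ?_, fun hr => ?_⟩⟩
    · obtain ⟨y, hy⟩ := β.surjective ⟨r, hR.1 hr⟩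
      have hyR : (y : Ω) ∈ R := (hβ y).1 (by rw [hy]; exact hr)
      have := (hβ (x * y * x⁻¹)).2 ((Subgroup.mem_normalizer_iff.1 hx.2 (y : Ω)).1 hyR)
      rw [map_mul, map_mul, map_inv, hy] at this
      exact this
    · have hrS : r ∈ S := by
        simpa [mul_assoc] using S.mul_mem (S.mul_mem (S.inv_mem (β x).2) (hR.1 hr)) (β x).2
      obtain ⟨y, hy⟩ := β.surjective ⟨r, hrS⟩
      have h2 : ((β (x * y * x⁻¹) : S) : Ω) ∈ R := by
        rw [map_mul, map_mul, map_inv, hy]
        exact hr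
      have h3 := (Subgroup.mem_normalizer_iff.1 hx.2 (y : Ω)).2 ((hβ _).1 h2)
      have := (hβ y).2 h3
      rwa [hy] at this
  have hαN : ∀ x : S, ((α x : S) : Ω) ∈ N ↔ (x : Ω) ∈ N := by
    refine fun x => ⟨fun hx => ?_, hfwd α hαR x⟩
    have := hfwd α⁻¹ (fun y => by have h := hαR ((α⁻¹ : MulAut S) y); rw [MulAut.apply_inv_self] at h; exact h.symm) (α x) hx
    simpa using this
  have hNc : F.IsCentric N := isCentric_mono hR (le_normalizerIn hR.1) hNS
  refine ih _ ?_ hNc hαN ?_ rfl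
  · have h1 := Subgroup.card_le_of_le hNS
    have hfin : Finite N := finite_of_le hNS
    have h2 : Nat.card R < Nat.card N :=
      Set.Finite.card_lt_card (s := (R : Set Ω)) (Set.toFinite (N : Set Ω))
        (SetLike.coe_ssubset_coe.2 (lt_normalizerIn hS hlt))
    omega
  -- extend inside `E`, compare with `α` on the centric subgroup
  obtain ⟨ψ, hψ, hψN, hag⟩ := hres.exists_extension
    (isReceptive_of_isCentric hS hE (isCentric_of_subsystem hsub hR)) (le_normalizerIn hR.1) le_rfl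
    fun g hg => by
      refine mem_autInducedBy_iff.2 ⟨((α ⟨g, hg.1⟩ : S) : Ω), (α _).2, fun y => ?_⟩
      obtain ⟨x, rfl⟩ := (restrictIso (α : S ≃* S) hR.1 hR.1 hαR).surjective y
      rw [congr_apply, MulEquiv.symm_apply_apply, restrictIso_apply, restrictIso_apply]
      have e : (⟨(conjAut R g hg.2 x : Ω), hR.1 (conjAut R g hg.2 x).2⟩ : S) =
          ⟨g, hg.1⟩ * ⟨x, hR.1 x.2⟩ * ⟨g, hg.1⟩⁻¹ := Subtype.ext rfl
      rw [e]
      show ((α (_ * _ * _) : S) : Ω) = _
      rw [map_mul, map_mul, map_inv]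
      rfl
  have hαhom : (N.subtype.comp (restrictIso (α : S ≃* S) hNS hNS hαN).toMonoidHom) ∈ F.Hom N :=
    mem_of_restrict ((mem_autGroup_iff_hom le_rfl).1 hα) hNS _ fun x => rfl
  obtain ⟨z, hzR, -, hz⟩ := eq_comp_conj_of_eq_on_centric hS hF hR (le_normalizerIn hR.1)
    (hsub N hψ) hαhom fun x hx => (hag ⟨x, hx⟩)
  exact mem_of_comp (E.conj_mem hNS (hR.1 hzR)) hψ (fun y => N.mul_mem (N.mul_mem z.2 y.2) (N.inv_mem z.2))
    _ fun y => hz y

/-- An element normalizing `S` that is, on a fully normalized centric subgroup it normalizes, a product of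
`p`-elements of the normalizer, induces an automorphism of `S` in every invariant saturated subsystem. -/
theorem conjAut_mem_of_closure {G : Type*} [Group G] [Finite G] [Fact p.Prime] (S : Sylow p G)
    {E : Cfsg.FusionSystem (S : Subgroup G)} (hE : E.IsSaturated p)
    (hinv : E.IsInvariantIn (groupFusionSystem (S : Subgroup G))) {R : Subgroup G}
    (hRn : (groupFusionSystem (S : Subgroup G)).IsFullyNormalized R)
    (hRc : (groupFusionSystem (S : Subgroup G)).IsCentric R) {g : G}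
    (hg : g ∈ Subgroup.closure {g : G | g ∈ Subgroup.normalizer (R : Set G) ∧ ∃ k : ℕ, orderOf g = p ^ k})
    (hgS : g ∈ Subgroup.normalizer ((S : Subgroup G) : Set G)) :
    conjAut (S : Subgroup G) g hgS ∈ E.autGroup (S : Subgroup G) := by
  set F := groupFusionSystem (S : Subgroup G)
  have hF := groupFusionSystem_isSaturated S
  have hRS : R ≤ (S : Subgroup G) := hRc.1
  obtain ⟨T, hT⟩ := (isFullyAutomized_of_isFullyNormalized S.2 hF hRn).2
  let A : Subgroup (F.autGroup R) := (E.autGroup R).subgroupOf (F.autGroup R)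
  have hAn : A.Normal := ⟨fun a ha b => conj_mem_autGroup_of_invariant hinv hRS b.2 ha⟩
  have hTA : (T : Subgroup (F.autGroup R)) ≤ A := fun x hx => by
    rw [hT] at hx
    exact autInducedBy_le_autGroup E hRS hx
  have : Finite (MulAut R) := finite_mulAut
  have key : ∀ y ∈ Subgroup.closure
      {g : G | g ∈ Subgroup.normalizer (R : Set G) ∧ ∃ k : ℕ, orderOf g = p ^ k},
      ∃ h : y ∈ Subgroup.normalizer (R : Set G), conjAut R y h ∈ E.autGroup R := by
    intro y hy
    refine Subgroup.closure_induction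
      (p := fun y _ => ∃ h : y ∈ Subgroup.normalizer (R : Set G), conjAut R y h ∈ E.autGroup R)
      ?_ ⟨one_mem _, ?_⟩ ?_ ?_ hy
    · rintro y ⟨hyN, k, hk⟩
      refine ⟨hyN, ?_⟩
      have hmem : conjAut R y hyN ∈ F.autGroup R := by
        rw [group_autGroup_eq hRS]
        exact conjAut_mem_autInducedBy (Subgroup.mem_top y) hyN
      set c : F.autGroup R := ⟨conjAut R y hyN, hmem⟩
      have hy1 : (⟨y, hyN⟩ : Subgroup.normalizer (R : Set G)) ^ p ^ k = 1 :=
        Subtype.ext (by rw [Subgroup.coe_pow, ← hk, pow_orderOf_eq_one]; rfl)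
      have hc : c ^ p ^ k = 1 := by
        refine Subtype.ext ?_
        show (R.normalizerMonoidHom ⟨y, hyN⟩) ^ p ^ k = 1
        rw [← map_pow, hy1, map_one]
      have hpc : IsPGroup p (Subgroup.zpowers c) := by
        rintro ⟨_, i, rfl⟩
        refine ⟨k, Subtype.ext ?_⟩
        show (c ^ i) ^ p ^ k = 1
        rw [← zpow_natCast, ← zpow_mul, mul_comm, zpow_mul, zpow_natCast, hc, one_zpow]
      obtain ⟨m, hm⟩ := exists_conj_le_sylow T hpc
      have h1 := hAn.conj_mem _ (hTA (hm c (Subgroup.mem_zpowers c))) m⁻¹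
      have h2 : c ∈ A := by simpa [mul_assoc] using h1
      exact h2
    · rw [show conjAut R (1 : G) (one_mem _) = 1 from map_one _]
      exact one_mem _
    · rintro a b - - ⟨ha, ha'⟩ ⟨hb, hb'⟩
      refine ⟨mul_mem ha hb, ?_⟩
      rw [show conjAut R (a * b) (mul_mem ha hb) = conjAut R a ha * conjAut R b hb from
        map_mul R.normalizerMonoidHom ⟨a, ha⟩ ⟨b, hb⟩]
      exact mul_mem ha' hb'
    · rintro a - ⟨ha, ha'⟩
      refine ⟨inv_mem ha, ?_⟩
      rw [show conjAut R a⁻¹ (inv_mem ha) = (conjAut R a ha)⁻¹ from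
        map_inv R.normalizerMonoidHom ⟨a, ha⟩]
      exact inv_mem ha'
  obtain ⟨hgR, hgE⟩ := key g hg
  have hαF : conjAut (S : Subgroup G) g hgS ∈ F.autGroup (S : Subgroup G) := by
    rw [group_autGroup_eq le_rfl]
    exact conjAut_mem_autInducedBy (Subgroup.mem_top g) hgS
  have hαR : ∀ x : (S : Subgroup G),
      ((conjAut (S : Subgroup G) g hgS x : (S : Subgroup G)) : G) ∈ R ↔ (x : G) ∈ R :=
    fun x => ((Subgroup.mem_normalizer_iff.1 hgR) _).symm
  exact mem_of_restrict_centric S.2 hF hE hinv.1 hαF hRc hαR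
    (IsFIso.restrict ((mem_autGroup_iff hRS).1 hgE) le_rfl _ fun x => rfl)

end CfsgLib.FusionQuot
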