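import Mathlib.GroupTheory.Nilpotent
import Cfsg.Agent.Lib.FusionQuot.SCSeries

/-!
Normal subgroups of a system and strongly closed subgroups: closedness, invariant subgroups, images and
preimages in factor systems.
-/
set_option autoImplicit false

namespace CfsgLib.FusionQuot

open Cfsg Cfsg.FusionSystem CfsgLib.Fusion

variable {Ω : Type*} [Group Ω] {S : Subgroup Ω} {F : Cfsg.FusionSystem S} {p : ℕ} {A B Q : Subgroup Ω}

theorem stronglyClosed_bot (F : Cfsg.FusionSystem S) : F.StronglyClosed ⊥ :=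
  ⟨bot_le, fun R hR φ _ x => by
    obtain rfl : x = 1 := Subtype.ext (Subgroup.mem_bot.1 (hR x.2))
    simp⟩

theorem stronglyClosed_self (F : Cfsg.FusionSystem S) : F.StronglyClosed S :=
  ⟨le_rfl, fun _ _ _ hφ x => map_mem hφ x⟩

theorem stronglyClosed_inf (hA : F.StronglyClosed A) (hB : F.StronglyClosed B) :
    F.StronglyClosed (A ⊓ B) :=
  ⟨inf_le_left.trans hA.1, fun R hR φ hφ x =>
    ⟨hA.2 R (hR.trans inf_le_left) φ hφ x, hB.2 R (hR.trans inf_le_right) φ hφ x⟩⟩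

theorem stronglyClosed_of_isNormal (hQ : F.IsNormal Q) : F.StronglyClosed Q := by
  refine ⟨hQ.1, fun R hR φ hφ x => ?_⟩
  obtain ⟨ψ, -, hag, hmap⟩ := hQ.2 R φ hφ
  rw [← hag x]
  exact mem_of_map_subgroupOf_eq hmap (Subgroup.mem_sup_left x.2) (hR x.2)

theorem eq_of_isConj_of_stronglyClosed [Finite S] (hQ : F.StronglyClosed Q) {R : Subgroup Ω}
    (h : F.IsConj Q R) : R = Q := by
  obtain ⟨φ, hφ, rfl⟩ := h
  refine le_antisymm ?_ (le_range_of_le hQ hφ le_rfl)
  rintro _ ⟨x, rfl⟩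
  exact hQ.2 Q le_rfl φ hφ x

theorem isFullyNormalized_of_stronglyClosed [Finite S] (hQ : F.StronglyClosed Q) :
    F.IsFullyNormalized Q :=
  ⟨hQ.1, fun R hR => by rw [eq_of_isConj_of_stronglyClosed hQ hR]⟩

/-- A subgroup of a normal subgroup preserved by the system's automorphisms of that subgroup is normal. -/
theorem isNormal_of_invariant (hQ : F.IsNormal Q) {R : Subgroup Ω} (hR : R ≤ Q)
    (hinv : ∀ (W : Subgroup Ω) (ψ : W →* Ω), ψ ∈ F.Hom W → Q ≤ W → (Q.subgroupOf W).map ψ = Q →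
      (R.subgroupOf W).map ψ = R) : F.IsNormal R := by
  refine ⟨hR.trans hQ.1, fun P φ hφ => ?_⟩
  obtain ⟨ψ, hψ, hag, hmap⟩ := hQ.2 P φ hφ
  have hle : P ⊔ R ≤ P ⊔ Q := sup_le_sup_left hR P
  refine ⟨_, restrict_mem hψ hle, fun x => hag x, ?_⟩
  conv_rhs => rw [← hinv _ ψ hψ le_sup_right hmap]
  ext y
  constructor
  · rintro ⟨x, hx, rfl⟩
    exact ⟨Subgroup.inclusion hle x, hx, rfl⟩
  · rintro ⟨⟨x, hxW⟩, hx, rfl⟩
    exact ⟨⟨x, Subgroup.mem_sup_right hx⟩, hx, rfl⟩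

theorem map_subgroupOf_lowerCentralSeries {W : Subgroup Ω} (hQW : Q ≤ W) (ψ : W →* Ω)
    (hmap : (Q.subgroupOf W).map ψ = Q) (i : ℕ) :
    ((Q.lowerCentralSeries i).subgroupOf W).map ψ = Q.lowerCentralSeries i := by
  have h1 : ((Q.subgroupOf W).lowerCentralSeries i).map W.subtype = Q.lowerCentralSeries i := by
    rw [Subgroup.map_lowerCentralSeries, Subgroup.map_subgroupOf_eq_of_le hQW]
  have h2 : (Q.lowerCentralSeries i).subgroupOf W = (Q.subgroupOf W).lowerCentralSeries i := by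
    rw [← h1]
    exact Subgroup.comap_map_eq_self_of_injective W.subtype_injective _
  rw [h2, Subgroup.map_lowerCentralSeries, hmap]

theorem lowerCentralSeries_le_self (Q : Subgroup Ω) (i : ℕ) : Q.lowerCentralSeries i ≤ Q :=
  Q.lowerCentralSeries_antitone (Nat.zero_le i)

theorem isNormal_lowerCentralSeries (hQ : F.IsNormal Q) (i : ℕ) :
    F.IsNormal (Q.lowerCentralSeries i) :=
  isNormal_of_invariant hQ (lowerCentralSeries_le_self Q i)
    fun _ ψ _ hQW hmap => map_subgroupOf_lowerCentralSeries hQW ψ hmap i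

/-- A normal subgroup has a central series of strongly closed subgroups. -/
theorem exists_series_of_isNormal [Finite S] [Fact p.Prime] (hS : IsPGroup p S) (hQ : F.IsNormal Q) :
    ∃ n, Q.lowerCentralSeries n = ⊥ ∧ (∀ i, F.StronglyClosed (Q.lowerCentralSeries i)) ∧
      ∀ i, ⁅Q, Q.lowerCentralSeries i⁆ ≤ Q.lowerCentralSeries (i + 1) := by
  have : Finite Q := finite_of_le hQ.1
  obtain ⟨n, hn⟩ := (Subgroup.isNilpotent_iff_lowerCentralSeries Q).1 (isPGroup_of_le hS hQ.1).isNilpotent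
  exact ⟨n, hn, fun i => stronglyClosed_of_isNormal (isNormal_lowerCentralSeries hQ i),
    fun i => (Subgroup.commutator_comm _ _).le⟩

theorem isNormal_center_of_isNormal (hQ : F.IsNormal Q) :
    F.IsNormal (Q ⊓ Subgroup.centralizer (Q : Set Ω)) := by
  refine isNormal_of_invariant hQ inf_le_left fun W ψ hψ hQW hmap => ?_
  ext y
  constructor
  · rintro ⟨⟨x, hxW⟩, hx, rfl⟩
    obtain ⟨hxQ, hxc⟩ := hx
    refine ⟨mem_of_map_subgroupOf_eq hmap hxW hxQ, Subgroup.mem_centralizer_iff.2 fun z hz => ?_⟩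
    obtain ⟨w, hw, rfl⟩ := exists_of_map_subgroupOf_eq hmap hz
    rw [← map_mul, ← map_mul]
    exact congrArg ψ (Subtype.ext (Subgroup.mem_centralizer_iff.1 hxc w hw))
  · rintro ⟨hyQ, hyc⟩
    obtain ⟨x, hx, rfl⟩ := exists_of_map_subgroupOf_eq hmap hyQ
    refine ⟨x, ⟨hx, Subgroup.mem_centralizer_iff.2 fun z hz => ?_⟩, rfl⟩
    have h1 := Subgroup.mem_centralizer_iff.1 hyc _ (mem_of_map_subgroupOf_eq hmap (hQW hz) hz)
    rw [← map_mul, ← map_mul] at h1
    exact congrArg Subtype.val (hom_inj hψ h1)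

theorem commutator_inf_centralizer_self (Q : Subgroup Ω) :
    ⁅Q ⊓ Subgroup.centralizer (Q : Set Ω), Q ⊓ Subgroup.centralizer (Q : Set Ω)⁆ = ⊥ := by
  rw [Subgroup.commutator_eq_bot_iff_le_centralizer]
  exact fun x hx => Subgroup.centralizer_le inf_le_left hx.2

theorem inf_centralizer_ne_bot [Finite S] [Fact p.Prime] (hS : IsPGroup p S) (hQ : Q ≤ S) (h : Q ≠ ⊥) :
    Q ⊓ Subgroup.centralizer (Q : Set Ω) ≠ ⊥ := by
  have : Finite Q := finite_of_le hQ
  have : Nontrivial Q := (Subgroup.nontrivial_iff_ne_bot Q).2 h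
  have hc := (isPGroup_of_le hS hQ).center_nontrivial
  obtain ⟨⟨⟨z, hz⟩, hzc⟩, hne⟩ := exists_ne (1 : Subgroup.center Q)
  intro hbot
  refine hne (Subtype.ext (Subtype.ext ?_))
  have : z ∈ Q ⊓ Subgroup.centralizer (Q : Set Ω) :=
    ⟨hz, Subgroup.mem_centralizer_iff.2 fun w hw =>
      congrArg Subtype.val (Subgroup.mem_center_iff.1 hzc ⟨w, hw⟩)⟩
  rw [hbot] at this
  exact this

/-! ### Images and preimages in a factor system -/

variable {Ω' : Type*} [Group Ω'] {S' : Subgroup Ω'} {θ : S →* Ω'} {E : Cfsg.FusionSystem S'}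

theorem commutator_imageAlong_le {X Y Z : Subgroup Ω} (hX : X ≤ S) (hY : Y ≤ S)
    (h : ⁅X, Y⁆ ≤ Z) : ⁅imageAlong θ X, imageAlong θ Y⁆ ≤ imageAlong θ Z := by
  unfold imageAlong
  rw [← Subgroup.map_commutator]
  refine Subgroup.map_mono fun x hx => ?_
  have h1 : (x : Ω) ∈ (⁅X.subgroupOf S, Y.subgroupOf S⁆).map S.subtype := ⟨x, hx, rfl⟩
  rw [Subgroup.map_commutator, Subgroup.map_subgroupOf_eq_of_le hX,
    Subgroup.map_subgroupOf_eq_of_le hY] at h1
  exact h h1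

theorem commutator_preimageAlong_le {X Y Z : Subgroup Ω'} (h : ⁅X, Y⁆ ≤ Z) :
    ⁅preimageAlong θ X, preimageAlong θ Y⁆ ≤ preimageAlong θ Z := by
  unfold preimageAlong
  rw [← Subgroup.map_commutator]
  refine Subgroup.map_mono ?_
  rw [← Subgroup.map_le_iff_le_comap, Subgroup.map_commutator]
  exact (Subgroup.commutator_mono (Subgroup.map_comap_le _ _) (Subgroup.map_comap_le _ _)).trans h

theorem stronglyClosed_imageAlong {K : Subgroup Ω} (hK : F.StronglyClosed K)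
    (hE : F.IsFactorSystem K θ E) (hA : F.StronglyClosed A) : E.StronglyClosed (imageAlong θ A) := by
  refine ⟨hE.2.2.1 ▸ imageAlong_le_range A, fun R' hR' φ' hφ' y => ?_⟩
  obtain ⟨-, φ, hφ, hi⟩ := (hE.2.2.2 R' φ').1 hφ'
  obtain ⟨x, hxS, hxA, hxy⟩ := mem_imageAlong.1 (hR' y.2)
  have hy : θ ⟨x, hxS⟩ ∈ R' := hxy ▸ y.2
  have hxp : x ∈ preimageAlong θ R' := mem_preimageAlong.2 ⟨hxS, hy⟩
  have e : y = ⟨θ ⟨x, hxS⟩, hy⟩ := Subtype.ext hxy.symm
  rw [e, induced_apply hi ⟨x, hxp⟩ hxS hy (map_mem hφ _)]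
  exact apply_mem_imageAlong _ ((stronglyClosed_apply_iff hA hφ ⟨x, hxp⟩).2 hxA)

theorem stronglyClosed_preimageAlong (hmor : F.IsMorphism E θ) {A' : Subgroup Ω'}
    (hA' : E.StronglyClosed A') : F.StronglyClosed (preimageAlong θ A') := by
  refine ⟨preimageAlong_le A', fun R hR φ hφ x => ?_⟩
  obtain ⟨φ', hφ', hi⟩ := hmor.2 R φ hφ
  obtain ⟨hxS, hxA⟩ := mem_preimageAlong.1 (hR x.2)
  refine mem_preimageAlong.2 ⟨map_mem hφ x, ?_⟩
  rw [← induced_apply hi x hxS (apply_mem_imageAlong hxS x.2) (map_mem hφ x)]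
  exact (stronglyClosed_apply_iff hA' hφ' _).2 hxA

theorem stronglyClosed_sup [Finite S] [Fact p.Prime] (hS : IsPGroup p S) (hF : F.IsSaturated p)
    (hA : F.StronglyClosed A) (hB : F.StronglyClosed B) : F.StronglyClosed (A ⊔ B) := by
  have := stronglyClosed_subgroupOf_normal hB
  obtain ⟨E', hE'⟩ := exists_factorSystem_quotient F B hB
  have hmor := (isSurjectiveMorphism_factor hS hF hB _ _ hE').1
  have h := stronglyClosed_preimageAlong hmor (stronglyClosed_imageAlong hB hE' hA)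
  convert h using 1
  refine le_antisymm (sup_le (le_preimageAlong_imageAlong hA.1) fun b hb =>
    mem_preimageAlong_of_eq_one (hB.1 hb) ((hE'.2.1 _).2 hb)) ?_
  refine (preimageAlong_mono (imageAlong_mono le_sup_left)).trans
    (preimageAlong_imageAlong (sup_le hA.1 hB.1) fun x hx hx1 =>
      Subgroup.mem_sup_right ((hE'.2.1 ⟨x, hx⟩).1 hx1)).le

end CfsgLib.FusionQuot
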