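import Cfsg.Agent.Lib.Fusion.Saturation
import Cfsg.Agent.Lib.FusionQuot.Factor

/-!
Downward induction on maps of a saturated fusion system, and the extension step around a strongly closed
subgroup.
-/
set_option autoImplicit false

namespace CfsgLib.FusionQuot

open Cfsg Cfsg.FusionSystem CfsgLib.Fusion

variable {Ω : Type*} [Group Ω] {S : Subgroup Ω} {F : Cfsg.FusionSystem S} {p : ℕ}

theorem card_lt_of_lt [Finite S] {P Q : Subgroup Ω} (h : P < Q) (hQ : Q ≤ S) :
    Nat.card P < Nat.card Q := by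
  have : Finite Q := finite_of_le hQ
  exact Set.Finite.card_lt_card (s := (P : Set Ω)) (Set.toFinite (Q : Set Ω)) (SetLike.coe_ssubset_coe.2 h)

/-- A property of the maps of a saturated system that is stable under restriction, composition and inversion
holds for all maps as soon as it holds for the maps on `S` and, inductively, for the automorphisms of fully
normalized proper subgroups. -/
theorem hom_induction [Finite S] [Fact p.Prime] (hS : IsPGroup p S) (hF : F.IsSaturated p)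
    (C : ∀ P : Subgroup Ω, (P →* Ω) → Prop)
    (hrestr : ∀ (P Q : Subgroup Ω) (φ : Q →* Ω), φ ∈ F.Hom Q → ∀ (h : P ≤ Q) (χ : P →* Ω),
      (∀ x : P, χ x = φ ⟨x, h x.2⟩) → C Q φ → C P χ)
    (hcomp : ∀ (P Q : Subgroup Ω) (φ : P →* Ω) (ψ : Q →* Ω), φ ∈ F.Hom P → ψ ∈ F.Hom Q →
      ∀ (h : ∀ x, φ x ∈ Q) (χ : P →* Ω), (∀ x, χ x = ψ ⟨φ x, h x⟩) → C P φ → C Q ψ → C P χ)
    (hinv : ∀ (P : Subgroup Ω) (φ : P →* Ω), φ ∈ F.Hom P → ∀ (Q : Subgroup Ω), φ.range = Q →
      ∀ (ψ : Q →* Ω), ψ ∈ F.Hom Q → (∀ (x : P) (hx : φ x ∈ Q), ψ ⟨φ x, hx⟩ = x) → C P φ → C Q ψ)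
    (htop : ∀ φ ∈ F.Hom S, C S φ)
    (haut : ∀ Q : Subgroup Ω, F.IsFullyNormalized Q → Q < S →
      (∀ (R : Subgroup Ω) (χ : R →* Ω), χ ∈ F.Hom R → Nat.card Q < Nat.card R → C R χ) →
      ∀ α ∈ F.autGroup Q, C Q (Q.subtype.comp α.toMonoidHom)) :
    ∀ (P : Subgroup Ω) (φ : P →* Ω), φ ∈ F.Hom P → C P φ := by
  intro P
  induction hn : Nat.card S - Nat.card P using Nat.strong_induction_on generalizing P with
  | _ n ih =>
  intro φ hφ
  have hPS : P ≤ S := dom_le hφ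
  rcases hPS.eq_or_lt with rfl | hlt
  · exact htop φ hφ
  obtain ⟨f, hf, hfx⟩ := exists_iso hφ rfl
  obtain ⟨Q, hPQ, hQ⟩ := exists_isFullyNormalized F hPS
  have hIH : ∀ (R : Subgroup Ω) (χ : R →* Ω), χ ∈ F.Hom R → Nat.card P < Nat.card R → C R χ := by
    intro R χ hχ hc
    have := Subgroup.card_le_of_le (dom_le hχ)
    exact ih _ (by omega) R rfl χ hχ
  have hcQ : Nat.card Q = Nat.card P := (isConj_card_eq hPQ).symm
  have hQS : Q < S := lt_of_le_of_ne hQ.1 fun h => by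
    have := card_lt_of_lt hlt le_rfl
    rw [h] at hcQ
    omega
  obtain ⟨e, he, ψ, hψ, -, hψe⟩ := exists_normalizer_map hS hF hQ hPQ
  have hrange : F.IsConj φ.range Q := isConj_trans (isConj_symm (isConj_of_mem hφ)) hPQ
  obtain ⟨e', he', ψ', hψ', -, hψe'⟩ := exists_normalizer_map hS hF hQ hrange
  have hlt' : φ.range < S := lt_of_le_of_ne (range_le hφ) fun h => by
    have := card_lt_of_lt hlt le_rfl
    have := isConj_card_eq (isConj_of_mem hφ)
    rw [h] at this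
    omega
  have hPφ : Nat.card φ.range = Nat.card P := (isConj_card_eq (isConj_of_mem hφ)).symm
  have c1 : C P (Q.subtype.comp e.toMonoidHom) :=
    hrestr P _ ψ hψ (le_normalizerIn hPS) _ (fun x => (hψe x).symm) (hIH _ ψ hψ
      (card_lt_of_lt (lt_normalizerIn hS hlt) (normalizerIn_le S P)))
  have c2 : C φ.range (Q.subtype.comp e'.toMonoidHom) := by
    refine hrestr φ.range _ ψ' hψ' (le_normalizerIn hlt'.le) _ (fun x => (hψe' x).symm) (hIH _ ψ' hψ' ?_)
    rw [← hPφ]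
    exact card_lt_of_lt (lt_normalizerIn hS hlt') (normalizerIn_le S _)
  have c3 : C Q (φ.range.subtype.comp e'.symm.toMonoidHom) :=
    hinv _ _ he' Q (range_subtype_comp e') _ he'.symm
      (fun x hx => congrArg Subtype.val (e'.symm_apply_apply x)) c2
  have hα : e.symm.trans (f.trans e') ∈ F.autGroup Q :=
    (mem_autGroup_iff hQ.1).2 (he.symm.trans (hf.trans he'))
  have c4 : C Q (Q.subtype.comp (e.symm.trans (f.trans e')).toMonoidHom) :=
    haut Q hQ hQS (fun R χ hχ h => hIH R χ hχ (hcQ ▸ h)) _ hα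
  have c5 : C P (Q.subtype.comp (f.trans e').toMonoidHom) :=
    hcomp P Q _ _ he ((mem_autGroup_iff_hom hQ.1).1 hα) (fun x => (e x).2) _ (fun x => by simp) c1 c4
  exact hcomp P Q _ _ (hf.trans he') he'.symm (fun x => (e' (f x)).2) φ
    (fun x => by simp [hfx]) c5 c3

/-- An automorphism of a fully normalized subgroup, modulo a normal subgroup of automorphisms containing
those induced by a strongly closed subgroup, extends to a strictly larger subgroup. -/
theorem exists_extending_factor [Finite S] [Fact p.Prime] (hS : IsPGroup p S) (hF : F.IsSaturated p)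
    {Q A : Subgroup Ω} (hQ : F.IsFullyNormalized Q) (hA : F.StronglyClosed A) (hAQ : ¬ A ≤ Q)
    (K : Subgroup (F.autGroup Q)) [K.Normal]
    (hK : ∀ g (hg : g ∈ Subgroup.normalizer (Q : Set Ω)) (hgA : g ∈ A),
      (⟨conjAut Q g hg, autInducedBy_le_autGroup F hQ.1 (conjAut_mem_autInducedBy (hA.1 hgA) hg)⟩ :
        F.autGroup Q) ∈ K)
    (α : F.autGroup Q) :
    ∃ κ ∈ K, ∃ β : F.autGroup Q, α = κ * β ∧ ∃ V : Subgroup Ω, Q < V ∧ V ≤ S ∧
      ∃ (hV : Q ≤ V), ∃ ψ ∈ F.Hom V, ∀ x : Q, ψ ⟨x, hV x.2⟩ = (((β : MulAut Q) x : Q) : Ω) := by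
  have : Finite Q := finite_of_le hQ.1
  have : Finite (MulAut Q) := finite_mulAut
  obtain ⟨T, hT⟩ := (isFullyAutomized_of_isFullyNormalized hS hF hQ).2
  -- a Sylow subgroup of `K` inside `Aut_S(Q)`
  obtain ⟨R⟩ : Nonempty (Sylow p K) := inferInstance
  obtain ⟨g, hg⟩ := exists_conj_le_sylow T (IsPGroup.map R.2 K.subtype)
  let R' : Sylow p K := R.mapSurjective (f := (MulAut.conjNormal g : MulAut K).toMonoidHom)
    (MulAut.conjNormal g : MulAut K).surjective
  have hR'T : ∀ x ∈ R'.toSubgroup, (x : F.autGroup Q) ∈ T.toSubgroup := by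
    rintro _ ⟨y, hy, rfl⟩
    exact hg y ⟨y, hy, rfl⟩
  have hmax : ∀ x : K, (x : F.autGroup Q) ∈ T.toSubgroup → x ∈ R'.toSubgroup := by
    intro x hx
    have h := R'.is_maximal' (Q := T.toSubgroup.subgroupOf K) (IsPGroup.comap_of_injective T.2 _ K.subtype_injective)
      fun y hy => hR'T y hy
    exact h.le hx
  have htop := Sylow.normalizer_sup_eq_top R'
  have hα : α ∈ K ⊔ Subgroup.normalizer ((R'.toSubgroup.map K.subtype : Subgroup _) : Set _) := by
    rw [sup_comm, htop]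
    trivial
  rw [← SetLike.mem_coe, Subgroup.coe_mul_of_right_le_normalizer_left] at hα
  swap
  · exact fun x _ => (Subgroup.normalizer_eq_top K).symm ▸ Subgroup.mem_top x
  obtain ⟨κ, hκ, β, hβ, rfl⟩ := hα
  have hβ' : IsFIso F ((β : MulAut Q) : Q ≃* Q) := (mem_autGroup_iff hQ.1).1 β.2
  set φ := Q.subtype.comp (β : MulAut Q).toMonoidHom with hφ
  have hQV : Q ≤ extender S Q φ := le_extender hQ.1 fun x => hQ.1 ((β : MulAut Q) x).2
  obtain ⟨ψ, hψ, hag⟩ := (isReceptive_of_isFullyNormalized hS hF hQ).2 Q φ hβ' (range_subtype_comp _)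
  refine ⟨κ, hκ, β, rfl, extender S Q φ, lt_of_le_of_ne hQV ?_,
    (extender_le_normalizerIn φ).trans (normalizerIn_le S Q), hQV, ψ, hψ, fun x => hag x x.2 _⟩
  intro heq
  -- an element of `A` normalizing `Q` but outside it
  have hQA : Q < Q ⊔ A := left_lt_sup.2 hAQ
  have hfin : Finite ↥(Q ⊔ A) := finite_of_le (sup_le hQ.1 hA.1)
  obtain ⟨y, hy, hyQ⟩ := SetLike.exists_of_lt
    (lt_normalizerIn (isPGroup_of_le hS (sup_le hQ.1 hA.1)) hQA)
  have hnorm : Q ≤ Subgroup.normalizer (A : Set Ω) := fun q hq => by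
    refine Subgroup.mem_normalizer_iff.2 fun n => ⟨fun hn => ?_, fun hn => ?_⟩
    · exact (stronglyClosed_apply_iff hA (F.conj_mem le_rfl (hQ.1 hq)) ⟨n, hA.1 hn⟩).2 hn
    · have hnS : n ∈ S := by
        have := S.mul_mem (S.mul_mem (S.inv_mem (hQ.1 hq)) (hA.1 hn)) (hQ.1 hq)
        simpa [mul_assoc] using this
      exact (stronglyClosed_apply_iff hA (F.conj_mem le_rfl (hQ.1 hq)) ⟨n, hnS⟩).1 hn
  have hy1 : y ∈ (↑(Q ⊔ A) : Set Ω) := hy.1
  rw [Subgroup.coe_mul_of_left_le_normalizer_right Q A hnorm] at hy1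
  obtain ⟨q, hq, a, ha, rfl⟩ := hy1
  have haN : a ∈ Subgroup.normalizer (Q : Set Ω) := by
    have := Subgroup.mul_mem _ (Subgroup.inv_mem _ (Subgroup.le_normalizer hq)) hy.2
    simpa using this
  refine hyQ (Q.mul_mem hq ?_)
  rw [heq]
  refine (mem_extender_iff_congr ((β : MulAut Q) : Q ≃* Q) (fun _ => rfl) (hA.1 ha) haN).2 ?_
  let c : F.autGroup Q :=
    ⟨conjAut Q a haN, autInducedBy_le_autGroup F hQ.1 (conjAut_mem_autInducedBy (hA.1 ha) haN)⟩
  have hcK : c ∈ K := hK a haN ha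
  have hcR : (⟨c, hcK⟩ : K) ∈ R'.toSubgroup :=
    hmax _ (hT.ge (Subgroup.mem_subgroupOf.2 (conjAut_mem_autInducedBy (hA.1 ha) haN)))
  have h2 := (Subgroup.mem_normalizer_iff.1 hβ c).1 ⟨_, hcR, rfl⟩
  obtain ⟨z, hz, hz'⟩ := h2
  have h3 := hR'T z hz
  rw [show (z : F.autGroup Q) = β * c * β⁻¹ from hz', hT, Subgroup.mem_subgroupOf] at h3
  exact h3

end CfsgLib.FusionQuot
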