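import Mathlib.GroupTheory.Sylow

/-!
Small tools about conjugating `p`-subgroups into a given Sylow subgroup.
-/
set_option autoImplicit false

namespace CfsgLib.FusionQuot

variable {G : Type*} [Group G] [Finite G] {p : ℕ} [Fact p.Prime]

theorem exists_conj_mem_sylow (R : Sylow p G) {X : Subgroup G} (hX : IsPGroup p X) :
    ∃ g : G, ∀ x ∈ X, g * x * g⁻¹ ∈ (R : Subgroup G) := by
  obtain ⟨T, hT⟩ := hX.exists_le_sylow
  obtain ⟨g, hg⟩ := MulAction.exists_smul_eq G T R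
  refine ⟨g, fun x hx => ?_⟩
  rw [← hg, ← SetLike.mem_coe, Sylow.coe_subgroup_smul]
  exact Subgroup.smul_mem_pointwise_smul x (MulAut.conj g) _ (hT hx)

theorem exists_conj_mem_sylow_of_le (R : Sylow p G) {M X : Subgroup G} (hR : (R : Subgroup G) ≤ M)
    (hXM : X ≤ M) (hX : IsPGroup p X) :
    ∃ m ∈ M, ∀ x ∈ X, m * x * m⁻¹ ∈ (R : Subgroup G) := by
  obtain ⟨m, hm⟩ := exists_conj_mem_sylow (R.subtype hR)
    (X := X.subgroupOf M) (hX.comap_of_injective M.subtype M.subtype_injective)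
  refine ⟨m, m.2, fun x hx => ?_⟩
  exact hm ⟨x, hXM hx⟩ hx

/-- A `p`-subgroup containing a Sylow subgroup of a group in which it lives is that Sylow subgroup. -/
theorem exists_sylow_eq_of_le {T : Subgroup G} (hT : IsPGroup p T) (R : Sylow p G)
    (h : (R : Subgroup G) ≤ T) : ∃ R' : Sylow p G, (R' : Subgroup G) = T :=
  ⟨R, (R.is_maximal' hT h).symm⟩

theorem isPGroup_prod {M N : Type*} [Group M] [Group N] (hM : IsPGroup p M) (hN : IsPGroup p N) :
    IsPGroup p (M × N) := by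
  rintro ⟨a, b⟩
  obtain ⟨i, hi⟩ := hM a
  obtain ⟨j, hj⟩ := hN b
  refine ⟨i + j, Prod.ext ?_ ?_⟩
  · show a ^ p ^ (i + j) = 1
    rw [pow_add, pow_mul, hi, one_pow]
  · show b ^ p ^ (i + j) = 1
    rw [add_comm, pow_add, pow_mul, hj, one_pow]

end CfsgLib.FusionQuot
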