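import Cfsg.Agent.Lib.Fusion.Saturation
import Cfsg.Agent.Lib.FusionQuot.Factor
import Cfsg.Agent.Lib.FusionQuot.SylowTools

/-!
The image of a saturated fusion system under a surjective morphism is saturated.
-/
set_option autoImplicit false

namespace CfsgLib.FusionQuot

open Cfsg Cfsg.FusionSystem CfsgLib.Fusion

variable {Ω Ω' : Type*} [Group Ω] [Group Ω'] {S : Subgroup Ω} {S' : Subgroup Ω'}
variable {F : Cfsg.FusionSystem S} {F' : Cfsg.FusionSystem S'} {α : S →* Ω'}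

theorem stronglyClosed_kerAlong (hα : F.IsMorphism F' α) : F.StronglyClosed (kerAlong α) := by
  refine ⟨fun x hx => (mem_kerAlong.1 hx).1, fun R hR φ hφ x => ?_⟩
  obtain ⟨φ', hφ', hi⟩ := hα.2 R φ hφ
  obtain ⟨hxS, hx⟩ := mem_kerAlong.1 (hR x.2)
  refine mem_kerAlong.2 ⟨map_mem hφ x, ?_⟩
  rw [← induced_apply hi x hxS (apply_mem_imageAlong hxS x.2)]
  have : (⟨α ⟨x, hxS⟩, apply_mem_imageAlong hxS x.2⟩ : imageAlong α R) = 1 := Subtype.ext hx
  rw [this, map_one]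

/-- An isomorphism whose source contains the kernel induces an isomorphism on the images. -/
theorem exists_induced_iso [Finite S] (hα : F.IsMorphism F' α) {P Q : Subgroup Ω} {e : P ≃* Q}
    (he : IsFIso F e) : ∃ e' : imageAlong α P ≃* imageAlong α Q, IsFIso F' e' ∧
      ∀ x : P, ((e' ⟨_, apply_mem_imageAlong (he.le_left x.2) x.2⟩ : _) : Ω') =
        α ⟨(e x : Ω), he.le_right (e x).2⟩ := by
  obtain ⟨φ', hφ', hi⟩ := hα.2 P _ he
  have hr : φ'.range = imageAlong α Q := by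
    ext y
    constructor
    · rintro ⟨⟨z, hz⟩, rfl⟩
      obtain ⟨x, hx, hxP, rfl⟩ := mem_imageAlong.1 hz
      rw [induced_apply hi ⟨x, hxP⟩ hx hz (he.le_right (e ⟨x, hxP⟩).2)]
      exact apply_mem_imageAlong _ (e ⟨x, hxP⟩).2
    · intro hy
      obtain ⟨z, hz, hzQ, rfl⟩ := mem_imageAlong.1 hy
      obtain ⟨x, hx⟩ := e.surjective ⟨z, hzQ⟩
      refine ⟨⟨_, apply_mem_imageAlong (he.le_left x.2) x.2⟩,
        (induced_apply hi x _ _ (he.le_right (e x).2)).trans (congrArg α (Subtype.ext ?_))⟩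
      exact (congrArg Subtype.val hx :)
  obtain ⟨e', he', hx⟩ := exists_iso hφ' hr
  exact ⟨e', he', fun x => (hx _).trans (induced_apply hi x _ _ _)⟩

theorem isSaturated_of_isSurjectiveMorphism [Finite S] {p : ℕ} [Fact p.Prime] (hS : IsPGroup p S)
    (hF : F.IsSaturated p) (hα : F.IsSurjectiveMorphism F' α) : F'.IsSaturated p := by
  obtain ⟨hmor, hr, hsurj⟩ := hα
  have hK := stronglyClosed_kerAlong hmor
  intro P' hP'
  set P := preimageAlong α P' with hP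
  obtain ⟨Q, hPQ, hQa, hQr⟩ := hF P (preimageAlong_le P')
  have hKQ : kerAlong α ≤ Q := by
    obtain ⟨φ, hφ, rfl⟩ := hPQ
    exact le_range_of_le hK hφ (kerAlong_le_preimageAlong P')
  have hQS : Q ≤ S := hQa.1
  have : Finite Q := finite_of_le hQS
  have : Finite (MulAut Q) := finite_mulAut
  set Q' := imageAlong α Q with hQ'
  have hpre : preimageAlong α Q' = Q :=
    preimageAlong_imageAlong hQS fun x hx h => hKQ (mem_kerAlong.2 ⟨hx, h⟩)
  have hQ'S : Q' ≤ S' := hr ▸ imageAlong_le_range Q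
  have hconj : F'.IsConj P' Q' := by
    obtain ⟨e, he⟩ := exists_iso_of_isConj hPQ
    obtain ⟨e', he', -⟩ := exists_induced_iso hmor he
    have := he'.isConj
    rwa [hP, imageAlong_preimageAlong (hr ▸ hP')] at this
  -- the map `Aut_F(Q) → Aut_{F'}(Q')`
  have hmem : ∀ x : Q, α ⟨x, hQS x.2⟩ ∈ Q' := fun x => apply_mem_imageAlong _ x.2
  have hexists : ∀ β : F.autGroup Q, ∃ β' : F'.autGroup Q', ∀ x : Q,
      (((β' : MulAut Q') ⟨_, hmem x⟩ : Q') : Ω') =
        α ⟨((β : MulAut Q) x : Q), hQS ((β : MulAut Q) x).2⟩ := by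
    intro β
    obtain ⟨e', he', hx⟩ := exists_induced_iso hmor ((mem_autGroup_iff hQS).1 β.2)
    exact ⟨⟨e', (mem_autGroup_iff hQ'S).2 he'⟩, hx⟩
  choose ρ hρ using hexists
  have hext : ∀ β₁ β₂ : F'.autGroup Q',
      (∀ x : Q, (((β₁ : MulAut Q') ⟨_, hmem x⟩ : Q') : Ω') = ((β₂ : MulAut Q') ⟨_, hmem x⟩ : Q')) →
        β₁ = β₂ := by
    intro β₁ β₂ h
    refine Subtype.ext (MulEquiv.ext fun y => Subtype.ext ?_)
    obtain ⟨z, hz⟩ := y
    obtain ⟨x, hx, hxQ, rfl⟩ := mem_imageAlong.1 hz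
    exact h ⟨x, hxQ⟩
  let ρh : F.autGroup Q →* F'.autGroup Q' :=
    MonoidHom.mk' ρ fun a b => hext _ _ fun x => by
      rw [hρ, Subgroup.coe_mul, Subgroup.coe_mul, MulAut.mul_apply, MulAut.mul_apply]
      have : (ρ b : MulAut Q') ⟨_, hmem x⟩ = ⟨_, hmem ((b : MulAut Q) x)⟩ := Subtype.ext (hρ b x)
      rw [this, hρ]
  have hρsurj : Function.Surjective ρh := by
    intro β'
    obtain ⟨φ, hφ, hi⟩ := hsurj Q' hQ'S _ ((mem_autGroup_iff_hom hQ'S).1 β'.2)
    have hφ' := restrict_mem hφ hpre.ge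
    have hin : ∀ x : Q, φ (Subgroup.inclusion hpre.ge x) ∈ Q := fun x => by
      have h1 := induced_apply hi (Subgroup.inclusion hpre.ge x) (hQS x.2) (hmem x) (map_mem hφ _)
      apply hpre.le
      refine mem_preimageAlong.2 ⟨map_mem hφ _, ?_⟩
      rw [← h1]
      exact ((β' : MulAut Q') _).2
    obtain ⟨β, hβ, hβx⟩ := exists_aut hφ' (range_eq_of_le (hom_inj hφ') hin)
    refine ⟨⟨β, hβ⟩, hext _ _ fun x => ?_⟩
    show (((ρ ⟨β, hβ⟩ : MulAut Q') ⟨_, hmem x⟩ : Q') : Ω') = _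
    rw [hρ]
    refine Eq.trans ?_ (induced_apply hi (Subgroup.inclusion hpre.ge x) (hQS x.2) (hmem x)
      (map_mem hφ _)).symm
    exact congrArg α (Subtype.ext (hβx x))
  obtain ⟨T, hT⟩ := hQa.2
  have hTimg : T.toSubgroup.map ρh = (autInducedBy S' Q').subgroupOf (F'.autGroup Q') := by
    ext β'
    rw [Subgroup.mem_subgroupOf, mem_autInducedBy_iff]
    constructor
    · rintro ⟨β, hβ, rfl⟩
      rw [SetLike.mem_coe, hT, Subgroup.mem_subgroupOf, mem_autInducedBy_iff] at hβ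
      obtain ⟨g, hg, hgx⟩ := hβ
      refine ⟨α ⟨g, hg⟩, hr ▸ ⟨_, rfl⟩, ?_⟩
      rintro ⟨z, hz⟩
      obtain ⟨x, hx, hxQ, rfl⟩ := mem_imageAlong.1 hz
      show (((ρ β : MulAut Q') ⟨_, hmem ⟨x, hxQ⟩⟩ : Q') : Ω') = _
      rw [hρ, ← map_inv, ← map_mul, ← map_mul]
      exact congrArg α (Subtype.ext (hgx ⟨x, hxQ⟩))
    · rintro ⟨g', hg', hgx⟩
      obtain ⟨g, rfl⟩ := hr.ge hg'
      have hgN : (g : Ω) ∈ Subgroup.normalizer (Q : Set Ω) := by
        refine Subgroup.mem_normalizer_iff.2 fun n => ?_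
        have hN := Subgroup.mem_normalizer_iff.1
          (mem_normalizer_of_forall (α := (β' : MulAut Q')) hgx)
        constructor
        · intro hn
          apply hpre.le
          refine mem_preimageAlong.2 ⟨S.mul_mem (S.mul_mem g.2 (hQS hn)) (S.inv_mem g.2), ?_⟩
          have := (hN (α ⟨n, hQS hn⟩)).1 (hmem ⟨n, hn⟩)
          rw [← map_inv, ← map_mul, ← map_mul] at this
          exact this
        · intro hn
          have hnS : n ∈ S := by
            simpa [mul_assoc] using S.mul_mem (S.mul_mem (S.inv_mem g.2) (hQS hn)) g.2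
          apply hpre.le
          refine mem_preimageAlong.2 ⟨hnS, (hN _).2 ?_⟩
          rw [← map_inv, ← map_mul, ← map_mul]
          exact hmem ⟨_, hn⟩
      refine ⟨⟨conjAut Q g hgN,
        autInducedBy_le_autGroup F hQS (conjAut_mem_autInducedBy g.2 hgN)⟩, ?_, hext _ _ fun x => ?_⟩
      · rw [SetLike.mem_coe, hT]
        exact conjAut_mem_autInducedBy g.2 hgN
      · show (((ρ _ : MulAut Q') ⟨_, hmem x⟩ : Q') : Ω') = _
        rw [hρ, hgx ⟨_, hmem x⟩, ← map_inv, ← map_mul, ← map_mul]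
        rfl
  have hfin : Finite (F'.autGroup Q') := Finite.of_surjective _ hρsurj
  refine ⟨Q', hconj, ⟨hQ'S, T.mapSurjective hρsurj, hTimg⟩, hQ'S, fun R' φ' hφ' hφr => ?_⟩
  -- receptivity
  have hR'S := dom_le hφ'
  set R := preimageAlong α R' with hR
  obtain ⟨φ, hφ, hi⟩ := hsurj R' hR'S φ' hφ'
  have hRimg : imageAlong α R = R' := imageAlong_preimageAlong (hr ▸ hR'S)
  have hφQ : φ.range = Q := by
    exact (range_eq_preimageAlong_range hK hφ (kerAlong_le_preimageAlong R') hRimg.symm hi).symm.trans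
      ((congrArg (preimageAlong α) hφr).trans hpre)
  obtain ⟨f, hf, hfx⟩ := exists_iso hφ hφQ
  set N' := extender S' R' φ' with hN'
  set N := preimageAlong α N' with hN
  have hN'S : N' ≤ S' := (extender_le_normalizerIn φ').trans (normalizerIn_le _ _)
  have hRN : R ≤ N := preimageAlong_mono (le_extender hR'S (map_mem hφ'))
  have hfα : ∀ z : R, φ' ⟨_, (mem_preimageAlong.1 z.2).2⟩ = α ⟨(f z : Ω), hQS (f z).2⟩ := fun z =>
    (induced_apply hi z _ _ (map_mem hφ z)).trans (congrArg α (Subtype.ext (hfx z).symm))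
  have hNn : N ≤ normalizerIn S R := fun g hg => by
    obtain ⟨hgS, hg'⟩ := mem_preimageAlong.1 hg
    have hN := Subgroup.mem_normalizer_iff.1 (mem_extender_iff.1 hg').2.1
    refine ⟨hgS, Subgroup.mem_normalizer_iff.2 fun n => ⟨fun hn => ?_, fun hn => ?_⟩⟩
    · refine mem_preimageAlong.2 ⟨S.mul_mem (S.mul_mem hgS (preimageAlong_le _ hn)) (S.inv_mem hgS), ?_⟩
      have := (hN _).1 (mem_preimageAlong.1 hn).2
      rw [← map_inv, ← map_mul, ← map_mul] at this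
      exact this
    · have hnS : n ∈ S := by
        simpa [mul_assoc] using S.mul_mem (S.mul_mem (S.inv_mem hgS) (preimageAlong_le _ hn)) hgS
      refine mem_preimageAlong.2 ⟨hnS, (hN _).2 ?_⟩
      rw [← map_inv, ← map_mul, ← map_mul]
      exact (mem_preimageAlong.1 hn).2
  -- the transported action of `N` lies in the preimage of the image of `Aut_S(Q)`
  let M : Subgroup (F.autGroup Q) := (T.toSubgroup.map ρh).comap ρh
  let X : Subgroup (F.autGroup Q) :=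
    ((autInducedBy N R).map (MulAut.congr f).toMonoidHom).subgroupOf (F.autGroup Q)
  have hXp : IsPGroup p X :=
    IsPGroup.comap_subtype ((isPGroup_autInducedBy (hS.to_le (preimageAlong_le N')) R).map _)
  have hXM : X ≤ M := by
    intro c hc
    obtain ⟨d, hd, hdc⟩ := Subgroup.mem_subgroupOf.1 hc
    obtain ⟨g, hgn, hg, rfl⟩ := exists_eq_conjAut hd
    obtain ⟨hgS, hg'⟩ := mem_preimageAlong.1 hg
    obtain ⟨-, -, h', hh', hheq⟩ := mem_extender_iff.1 hg'
    show ρh c ∈ T.toSubgroup.map ρh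
    rw [hTimg, Subgroup.mem_subgroupOf, mem_autInducedBy_iff]
    refine ⟨h', hh', ?_⟩
    rintro ⟨y, hy⟩
    obtain ⟨x, hx, hxQ, rfl⟩ := mem_imageAlong.1 hy
    obtain ⟨z, hz⟩ := f.surjective ⟨x, hxQ⟩
    show (((ρ c : MulAut Q') ⟨_, hmem ⟨x, hxQ⟩⟩ : Q') : Ω') = _
    rw [hρ]
    have hw : (conjAut R g hgn z : Ω) = g * (z : Ω) * g⁻¹ := rfl
    have hc' : (c : MulAut Q) ⟨x, hxQ⟩ = f (conjAut R g hgn z) := by
      rw [← hdc]
      show f (conjAut R g hgn (f.symm ⟨x, hxQ⟩)) = _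
      rw [← hz, MulEquiv.symm_apply_apply]
    have hzm : α ⟨z, preimageAlong_le _ z.2⟩ ∈ R' := (mem_preimageAlong.1 z.2).2
    have hgz : α ⟨g, hgS⟩ * α ⟨z, preimageAlong_le _ z.2⟩ * (α ⟨g, hgS⟩)⁻¹ ∈ R' :=
      conj_mem_of_mem_normalizer (mem_extender_iff.1 hg').2.1 hzm
    have h1 := hheq ⟨_, hzm⟩ hgz
    rw [hfα z] at h1
    calc α ⟨((c : MulAut Q) ⟨x, hxQ⟩ : Q), hQS ((c : MulAut Q) ⟨x, hxQ⟩).2⟩
        = φ' ⟨_, (mem_preimageAlong.1 (conjAut R g hgn z).2).2⟩ := by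
          rw [hfα]
          exact congrArg α (Subtype.ext (congrArg Subtype.val hc' :))
      _ = φ' ⟨_, hgz⟩ := by
          congr 1
          apply Subtype.ext
          show α (⟨g, hgS⟩ * ⟨z, preimageAlong_le _ z.2⟩ * (⟨g, hgS⟩ : S)⁻¹) = _
          rw [map_mul, map_mul, map_inv]
      _ = h' * α ⟨(f z : Ω), hQS (f z).2⟩ * h'⁻¹ := h1
      _ = _ := by simp only [hz]
  obtain ⟨m, hmM, hm⟩ := exists_conj_mem_sylow_of_le T (Subgroup.le_comap_map ρh _) hXM hXp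
  obtain ⟨a, ha, ham⟩ := hmM
  set k := a⁻¹ * m with hk
  have hkm : ∀ x ∈ X, k * x * k⁻¹ ∈ T.toSubgroup := fun x hx => by
    have := T.toSubgroup.mul_mem (T.toSubgroup.mul_mem (T.toSubgroup.inv_mem ha) (hm x hx)) ha
    simpa [hk, mul_assoc] using this
  have hρk : ρh k = 1 := by rw [hk, map_mul, map_inv, ham, inv_mul_cancel]
  have hf₂ : IsFIso F (f.trans (k : MulAut Q)) := hf.trans ((mem_autGroup_iff hQS).1 k.2)
  obtain ⟨ψ, hψ, -, hag⟩ := hf₂.exists_extension hQr hRN hNn fun g hg => by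
    have hc : MulAut.congr f (conjAut R g (hNn hg).2) ∈ F.autGroup Q :=
      hf.congr_mem (autInducedBy_le_autGroup F hf.le_left
        (conjAut_mem_autInducedBy (hNn hg).1 (hNn hg).2))
    have hmemX : (⟨_, hc⟩ : F.autGroup Q) ∈ X :=
      Subgroup.mem_subgroupOf.2 ⟨_, conjAut_mem_autInducedBy hg (hNn hg).2, rfl⟩
    have h := hkm _ hmemX
    rw [hT, Subgroup.mem_subgroupOf] at h
    exact h
  obtain ⟨ψ', hψ', hi'⟩ := hmor.2 N ψ hψ
  have hNimg : N' ≤ imageAlong α N := (imageAlong_preimageAlong (hr ▸ hN'S)).ge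
  refine ⟨_, restrict_mem hψ' hNimg, fun y hyR hyN => ?_⟩
  obtain ⟨x, hxS, hxR, rfl⟩ := mem_imageAlong.1 (hRimg.ge hyR)
  show ψ' ⟨α ⟨x, hxS⟩, hNimg hyN⟩ = _
  rw [induced_apply hi' ⟨x, hRN hxR⟩ hxS (hNimg hyN) (map_mem hψ _), hfα ⟨x, hxR⟩]
  have h1 := hρ k (f ⟨x, hxR⟩)
  rw [show (ρ k : F'.autGroup Q') = 1 from hρk] at h1
  refine Eq.trans ?_ h1.symm
  exact congrArg α (Subtype.ext (hag ⟨x, hxR⟩))

end CfsgLib.FusionQuot
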