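import Mathlib.Logic.Relation
import Mathlib.Order.Fin.Basic
import Cfsg.Prelude.Def_FusionComponents
import Cfsg.Agent.Lib.FusionQuot.NormalClosed
import Cfsg.Agent.Lib.FusionQuot.SurjSat

/-!
Solvable fusion systems and chains of strongly closed subgroups with abelian factors.
-/
set_option autoImplicit false

namespace CfsgLib.FusionQuot

open Cfsg Cfsg.FusionSystem CfsgLib.Fusion
open scoped commutatorElement

variable {Ω : Type*} [Group Ω] {S : Subgroup Ω} {F : Cfsg.FusionSystem S} {p : ℕ}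

/-- One step of a chain of strongly closed subgroups with abelian factors. -/
def SCStep (F : Cfsg.FusionSystem S) (A B : Subgroup Ω) : Prop :=
  F.StronglyClosed A ∧ F.StronglyClosed B ∧ A ≤ B ∧ ⁅B, B⁆ ≤ A

/-- Reachability by chains of strongly closed subgroups with abelian factors. -/
def SCChain (F : Cfsg.FusionSystem S) : Subgroup Ω → Subgroup Ω → Prop :=
  Relation.ReflTransGen (SCStep F)

theorem scChain_iff_fin {A B : Subgroup Ω} (hA : F.StronglyClosed A) :
    SCChain F A B ↔ ∃ (n : ℕ) (T : Fin (n + 1) → Subgroup Ω), T 0 = A ∧ T (Fin.last n) = B ∧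
      Monotone T ∧ (∀ i, F.StronglyClosed (T i)) ∧
      ∀ i : Fin n, ⁅T i.succ, T i.succ⁆ ≤ T (Fin.castSucc i) := by
  constructor
  · intro h
    induction h with
    | refl => exact ⟨0, fun _ => A, rfl, rfl, monotone_const, fun _ => hA, fun i => i.elim0⟩
    | @tail B C _ hs ih =>
      obtain ⟨n, T, h0, hl, hm, hsc, hc⟩ := ih
      refine ⟨n + 1, Fin.snoc T C, ?_, Fin.snoc_last _ _, ?_, ?_, ?_⟩
      · rw [show (0 : Fin (n + 2)) = Fin.castSucc 0 from rfl, Fin.snoc_castSucc, h0]
      · refine Fin.monotone_iff_le_succ.2 fun i => ?_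
        induction i using Fin.lastCases with
        | last => rw [Fin.succ_last, Fin.snoc_last, Fin.snoc_castSucc, hl]; exact hs.2.2.1
        | cast j =>
          rw [Fin.succ_castSucc, Fin.snoc_castSucc, Fin.snoc_castSucc]
          exact hm (Fin.castSucc_lt_succ (i := j)).le
      · intro i
        induction i using Fin.lastCases with
        | last => rw [Fin.snoc_last]; exact hs.2.1
        | cast j => rw [Fin.snoc_castSucc]; exact hsc j
      · intro i
        induction i using Fin.lastCases with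
        | last => rw [Fin.succ_last, Fin.snoc_last, Fin.snoc_castSucc, hl]; exact hs.2.2.2
        | cast j => rw [Fin.succ_castSucc, Fin.snoc_castSucc, Fin.snoc_castSucc]; exact hc j
  · rintro ⟨n, T, rfl, rfl, hm, hsc, hc⟩
    suffices h : ∀ i : Fin (n + 1), SCChain F (T 0) (T i) from h _
    intro i
    induction i using Fin.induction with
    | zero => exact Relation.ReflTransGen.refl
    | succ j ih => exact ih.tail ⟨hsc _, hsc _, hm (Fin.castSucc_lt_succ (i := j)).le, hc j⟩

theorem scChain_exists_step {A B R : Subgroup Ω} (h : SCChain F A B) (hA : A ≤ R) (hB : ¬ B ≤ R) :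
    ∃ X Y, SCStep F X Y ∧ X ≤ R ∧ ¬ Y ≤ R := by
  induction h with
  | refl => exact absurd hA hB
  | @tail B C _ hs ih =>
    by_cases h : B ≤ R
    · exact ⟨B, C, hs, h, hB⟩
    · exact ih h

theorem isPGroup_range {Ω' : Type*} [Group Ω'] (hS : IsPGroup p S) (θ : S →* Ω') : IsPGroup p θ.range :=
  hS.of_surjective θ.rangeRestrict θ.rangeRestrict_surjective

section Factor

variable [Finite S] [Fact p.Prime] {Ω' : Type*} [Group Ω'] {S' : Subgroup Ω'} {θ : S →* Ω'}
  {E : Cfsg.FusionSystem S'} {K : Subgroup Ω}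

omit [Fact p.Prime] in
theorem finite_of_isFactorSystem (hE : F.IsFactorSystem K θ E) : Finite S' := by
  have := Finite.of_surjective θ.rangeRestrict θ.rangeRestrict_surjective
  rw [← hE.2.2.1]
  exact this

omit [Finite S] [Fact p.Prime] in
theorem isPGroup_of_isFactorSystem (hS : IsPGroup p S) (hE : F.IsFactorSystem K θ E) : IsPGroup p S' := by
  rw [← hE.2.2.1]
  exact isPGroup_range hS θ

theorem isSaturated_factor (hS : IsPGroup p S) (hF : F.IsSaturated p) (hK : F.StronglyClosed K)
    (hE : F.IsFactorSystem K θ E) : E.IsSaturated p :=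
  isSaturated_of_isSurjectiveMorphism hS hF (isSurjectiveMorphism_factor hS hF hK θ E hE)

theorem core_ne_bot_of_chain (hS : IsPGroup p S) (hF : F.IsSaturated p) (h : SCChain F ⊥ S)
    (hK : F.StronglyClosed K) (hne : K ≠ S) (hE : F.IsFactorSystem K θ E) : E.core ≠ ⊥ := by
  obtain ⟨X, Y, ⟨-, hY, -, hc⟩, hXK, hYK⟩ :=
    scChain_exists_step h bot_le fun hSK => hne (le_antisymm hK.1 hSK)
  have := finite_of_isFactorSystem hE
  have hbot : imageAlong θ K ≤ ⊥ := fun y hy => by
    obtain ⟨x, hx, hxK, rfl⟩ := mem_imageAlong.1 hy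
    exact (hE.2.1 ⟨x, hx⟩).2 hxK
  have hab : ⁅imageAlong θ Y, imageAlong θ Y⁆ = ⊥ :=
    le_bot_iff.1 ((commutator_imageAlong_le hY.1 hY.1 (hc.trans hXK)).trans hbot)
  have hn : E.IsNormal (imageAlong θ Y) :=
    isNormal_of_abelian (isPGroup_of_isFactorSystem hS hE) (isSaturated_factor hS hF hK hE)
      (stronglyClosed_imageAlong hK hE hY) hab
  intro hcore
  refine hYK fun y hy => ?_
  have h1 := (le_core E hn) (apply_mem_imageAlong (hY.1 hy) hy)
  rw [hcore, Subgroup.mem_bot] at h1
  exact (hE.2.1 ⟨y, hY.1 hy⟩).1 h1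

theorem scStep_of_core_ne_bot (hS : IsPGroup p S) (hF : F.IsSaturated p) (hK : F.StronglyClosed K)
    (hE : F.IsFactorSystem K θ E) (hcore : E.core ≠ ⊥) : ∃ Y, SCStep F K Y ∧ K < Y := by
  have := finite_of_isFactorSystem hE
  have hS' := isPGroup_of_isFactorSystem hS hE
  have hc := isNormal_core E
  set Z := E.core ⊓ Subgroup.centralizer (E.core : Set Ω') with hZdef
  have hZ := stronglyClosed_of_isNormal (isNormal_center_of_isNormal hc)
  have hZne : Z ≠ ⊥ := inf_centralizer_ne_bot hS' hc.1 hcore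
  have hmor := (isSurjectiveMorphism_factor hS hF hK θ E hE).1
  have hKY : K ≤ preimageAlong θ Z := fun x hx =>
    mem_preimageAlong_of_eq_one (hK.1 hx) ((hE.2.1 _).2 hx)
  refine ⟨preimageAlong θ Z, ⟨hK, stronglyClosed_preimageAlong hmor hZ, hKY, ?_⟩,
    lt_of_le_of_ne hKY fun heq => hZne (le_bot_iff.1 fun z hz => ?_)⟩
  · refine (commutator_preimageAlong_le (commutator_inf_centralizer_self E.core).le).trans fun x hx => ?_
    obtain ⟨hxS, hx1⟩ := mem_preimageAlong.1 hx
    exact (hE.2.1 ⟨x, hxS⟩).1 (Subgroup.mem_bot.1 hx1)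
  · rw [← imageAlong_preimageAlong (hE.2.2.1 ▸ hZ.1 : Z ≤ θ.range)] at hz
    obtain ⟨x, hx, hxY, rfl⟩ := mem_imageAlong.1 hz
    exact Subgroup.mem_bot.2 ((hE.2.1 ⟨x, hx⟩).2 (heq.ge hxY))

end Factor

theorem isSolvableSystem_of_chain [Finite S] [Fact p.Prime] (hS : IsPGroup p S) (hF : F.IsSaturated p)
    (h : SCChain F ⊥ S) : F.IsSolvableSystem :=
  fun _ hR hne _ _ hE => core_ne_bot_of_chain hS hF h hR hne hE

theorem chain_of_isSolvableSystem [Finite S] [Fact p.Prime] (hS : IsPGroup p S) (hF : F.IsSaturated p)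
    (h : F.IsSolvableSystem) {R : Subgroup Ω} (hR : F.StronglyClosed R) : SCChain F R S := by
  induction hn : Nat.card S - Nat.card R using Nat.strong_induction_on generalizing R with
  | _ n ih =>
  by_cases hne : R = S
  · subst hne
    exact Relation.ReflTransGen.refl
  have := stronglyClosed_subgroupOf_normal hR
  obtain ⟨E, hE⟩ := exists_factorSystem_quotient F R hR
  obtain ⟨Y, hstep, hlt⟩ := scStep_of_core_ne_bot hS hF hR hE (h R hR hne E hE)
  refine Relation.ReflTransGen.head hstep (ih _ ?_ hstep.2.1 rfl)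
  have h1 := card_lt_of_lt hlt hstep.2.1.1
  have h2 := Subgroup.card_le_of_le hstep.2.1.1
  omega

theorem isSolvableSystem_iff_chain [Finite S] [Fact p.Prime] (hS : IsPGroup p S) (hF : F.IsSaturated p) :
    F.IsSolvableSystem ↔ SCChain F ⊥ S :=
  ⟨fun h => chain_of_isSolvableSystem hS hF h (stronglyClosed_bot F), isSolvableSystem_of_chain hS hF⟩

theorem centralizerIn_core_le_of_chain [Finite S] [Fact p.Prime] (hS : IsPGroup p S) (hF : F.IsSaturated p)
    (h : SCChain F ⊥ S) : centralizerIn S F.core ≤ F.core := by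
  set Q := F.core
  have hQ : F.IsNormal Q := isNormal_core F
  set C := centralizerIn S Q
  have hC : F.StronglyClosed C := by
    refine ⟨centralizerIn_le S Q, fun R hR φ hφ x => ⟨map_mem hφ x, ?_⟩⟩
    show φ x ∈ Subgroup.centralizer (Q : Set Ω)
    obtain ⟨ψ, hψ, hag, hmap⟩ := hQ.2 R φ hφ
    rw [← hag x]
    refine Subgroup.mem_centralizer_iff.2 fun z hz => ?_
    obtain ⟨w, hw, rfl⟩ := exists_of_map_subgroupOf_eq hmap hz
    rw [← map_mul, ← map_mul]
    exact congrArg ψ (Subtype.ext (Subgroup.mem_centralizer_iff.1 (hR x.2).2 w hw))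
  by_contra hCQ
  have key : ∀ {A B : Subgroup Ω}, SCChain F A B → A ⊓ C ≤ Q → B ⊓ C ≤ Q := by
    intro A B hAB hA
    induction hAB with
    | refl => exact hA
    | @tail B D _ hs ih =>
      set W := D ⊓ C with hW
      let T : ℕ → Subgroup Ω := fun i => if i = 0 then W else if i = 1 then W ⊓ Q else ⊥
      have hsc : ∀ i ≤ 2, F.StronglyClosed (T i) := fun i _ => by
        have hW' := stronglyClosed_inf hs.2.1 hC
        dsimp only [T]
        split_ifs
        exacts [hW', stronglyClosed_inf hW' (stronglyClosed_of_isNormal hQ), stronglyClosed_bot F]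
      have hn := isNormal_of_series hS hF T 2 rfl
        (fun i hi => by
          rcases i with _ | _ | i
          · exact inf_le_left
          · exact bot_le
          · omega) hsc
        (fun i hi => by
          rcases i with _ | _ | i
          · show ⁅W, W⁆ ≤ W ⊓ Q
            refine le_inf (Subgroup.commutator_le_self _) ?_
            refine le_trans (le_inf ?_ ?_) ih
            · exact (Subgroup.commutator_mono inf_le_left inf_le_left).trans hs.2.2.2
            · exact (Subgroup.commutator_le_self _).trans inf_le_right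
          · show ⁅W, W ⊓ Q⁆ ≤ ⊥
            rw [le_bot_iff, Subgroup.commutator_eq_bot_iff_le_centralizer]
            exact (inf_le_right.trans inf_le_right).trans (Subgroup.centralizer_le inf_le_right)
          · omega)
      exact le_core F hn
  exact hCQ ((le_inf (centralizerIn_le S Q) le_rfl).trans
    (key h ((bot_inf_eq C).le.trans bot_le)))

theorem isConstrained_of_isSolvableSystem [Finite S] [Fact p.Prime] (hS : IsPGroup p S)
    (hF : F.IsSaturated p) (h : F.IsSolvableSystem) : F.IsConstrained p := by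
  refine ⟨hF, F.core, isNormal_core F, core_le F, fun R hR => ?_⟩
  rw [eq_of_isConj_of_stronglyClosed (stronglyClosed_of_isNormal (isNormal_core F)) hR]
  exact centralizerIn_core_le_of_chain hS hF ((isSolvableSystem_iff_chain hS hF).1 h)

/-! ### Solvability along a normal subsystem -/

variable {T : Subgroup Ω} {E : Cfsg.FusionSystem T}

/-- The intersection of the transforms of `R` under `Aut_F(T)`. -/
def autCore (F : Cfsg.FusionSystem S) (T R : Subgroup Ω) : Subgroup Ω :=
  (⨅ α : F.autGroup T, (R.subgroupOf T).comap (α : MulAut T).toMonoidHom).map T.subtype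

theorem mem_autCore {R : Subgroup Ω} {x : Ω} :
    x ∈ autCore F T R ↔
      ∃ hx : x ∈ T, ∀ α ∈ F.autGroup T, (((α : MulAut T) ⟨x, hx⟩ : T) : Ω) ∈ R := by
  constructor
  · rintro ⟨y, hy, rfl⟩
    exact ⟨y.2, fun α hα => Subgroup.mem_iInf.1 hy ⟨α, hα⟩⟩
  · rintro ⟨hx, h⟩
    exact ⟨⟨x, hx⟩, Subgroup.mem_iInf.2 fun α => h α α.2, rfl⟩

theorem autCore_le (R : Subgroup Ω) : autCore F T R ≤ R := fun _ hx => by
  obtain ⟨hxT, h⟩ := mem_autCore.1 hx
  exact h 1 (one_mem _)

theorem stronglyClosed_autCore (hinv : E.IsInvariantIn F) {R : Subgroup Ω} (hR : E.StronglyClosed R) :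
    F.StronglyClosed (autCore F T R) := by
  obtain ⟨-, hT, hI, hFr⟩ := hinv
  have hle : autCore F T R ≤ T := fun x hx => (mem_autCore.1 hx).1
  refine ⟨hle.trans hT.1, fun X hX φ hφ x => ?_⟩
  have hXT := hX.trans hle
  obtain ⟨α, hα, φ₀, hφ₀, heq⟩ := hFr X hXT φ hφ
  have h₀ : φ₀ x ∈ T := map_mem hφ₀ x
  refine mem_autCore.2 ⟨hT.2 X hXT φ hφ x, fun β hβ => ?_⟩
  have hprod : β * α ∈ F.autGroup T := mul_mem hβ hα
  obtain ⟨χ, hχ, hχeq⟩ := hI X hXT φ₀ hφ₀ (β * α) hprod
  have hxm : (((β * α) ⟨x, hXT x.2⟩ : T) : Ω) ∈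
      (X.subgroupOf T).map (T.subtype.comp (β * α).toMonoidHom) :=
    ⟨⟨x, hXT x.2⟩, x.2, rfl⟩
  have h1 := hχeq x h₀ hxm
  obtain ⟨_, hxR⟩ := mem_autCore.1 (hX x.2)
  have h2 := (stronglyClosed_apply_iff hR hχ ⟨_, hxm⟩).2 (hxR _ hprod)
  rw [h1] at h2
  convert h2 using 1
  exact congrArg (fun z : T => ((β z : T) : Ω)) (Subtype.ext (heq x h₀) : (⟨φ x, _⟩ : T) = α ⟨φ₀ x, h₀⟩)

theorem scChain_autCore (hinv : E.IsInvariantIn F) {A B : Subgroup Ω} (h : SCChain E A B) :
    SCChain F (autCore F T A) (autCore F T B) := by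
  induction h with
  | refl => exact Relation.ReflTransGen.refl
  | @tail B C _ hs ih =>
    refine ih.tail ⟨stronglyClosed_autCore hinv hs.1, stronglyClosed_autCore hinv hs.2.1,
      fun x hx => ?_, Subgroup.commutator_le.2 fun a ha b hb => ?_⟩
    · obtain ⟨hxT, h⟩ := mem_autCore.1 hx
      exact mem_autCore.2 ⟨hxT, fun α hα => hs.2.2.1 (h α hα)⟩
    · obtain ⟨haT, ha'⟩ := mem_autCore.1 ha
      obtain ⟨hbT, hb'⟩ := mem_autCore.1 hb
      have hmem : ⁅a, b⁆ ∈ T := by
        rw [commutatorElement_def]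
        exact T.mul_mem (T.mul_mem (T.mul_mem haT hbT) (T.inv_mem haT)) (T.inv_mem hbT)
      refine mem_autCore.2 ⟨hmem, fun α hα => hs.2.2.2 ?_⟩
      have e : (⟨⁅a, b⁆, hmem⟩ : T) = ⁅(⟨a, haT⟩ : T), ⟨b, hbT⟩⁆ := Subtype.ext rfl
      rw [e, map_commutatorElement]
      exact Subgroup.commutator_mem_commutator (ha' α hα) (hb' α hα)

theorem scChain_inf (hsub : E.IsSubsystemOf F) {A B : Subgroup Ω} (h : SCChain F A B) :
    SCChain E (A ⊓ T) (B ⊓ T) := by
  have hmem : ∀ X, F.StronglyClosed X → E.StronglyClosed (X ⊓ T) := fun X hX =>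
    ⟨inf_le_right, fun R hR φ hφ x =>
      ⟨hX.2 R (hR.trans inf_le_left) φ (hsub R hφ) x, map_mem hφ x⟩⟩
  induction h with
  | refl => exact Relation.ReflTransGen.refl
  | @tail B C _ hs ih =>
    exact ih.tail ⟨hmem _ hs.1, hmem _ hs.2.1, inf_le_inf_right T hs.2.2.1,
      le_inf ((Subgroup.commutator_mono inf_le_left inf_le_left).trans hs.2.2.2)
        ((Subgroup.commutator_le_self _).trans inf_le_right)⟩

variable {Ω' : Type*} [Group Ω'] {S' : Subgroup Ω'} {θ : S →* Ω'} {D : Cfsg.FusionSystem S'}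

theorem scChain_imageAlong {K : Subgroup Ω} (hK : F.StronglyClosed K) (hD : F.IsFactorSystem K θ D)
    {A B : Subgroup Ω} (h : SCChain F A B) : SCChain D (imageAlong θ A) (imageAlong θ B) := by
  induction h with
  | refl => exact Relation.ReflTransGen.refl
  | @tail B C _ hs ih =>
    exact ih.tail ⟨stronglyClosed_imageAlong hK hD hs.1, stronglyClosed_imageAlong hK hD hs.2.1,
      imageAlong_mono hs.2.2.1, commutator_imageAlong_le hs.2.1.1 hs.2.1.1 hs.2.2.2⟩

theorem scChain_preimageAlong (hmor : F.IsMorphism D θ) {A B : Subgroup Ω'} (h : SCChain D A B) :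
    SCChain F (preimageAlong θ A) (preimageAlong θ B) := by
  induction h with
  | refl => exact Relation.ReflTransGen.refl
  | @tail B C _ hs ih =>
    exact ih.tail ⟨stronglyClosed_preimageAlong hmor hs.1, stronglyClosed_preimageAlong hmor hs.2.1,
      preimageAlong_mono hs.2.2.1, commutator_preimageAlong_le hs.2.2.2⟩

theorem isSolvableSystem_iff_normal_factor [Finite S] [Fact p.Prime] (hS : IsPGroup p S)
    (hF : F.IsSaturated p) (hE : E.IsWeaklyNormalIn F p) (hD : F.IsFactorSystem T θ D) :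
    F.IsSolvableSystem ↔ E.IsSolvableSystem ∧ D.IsSolvableSystem := by
  obtain ⟨hEs, -, hinv⟩ := hE
  have hT := hinv.2.1
  have := finite_of_le hT.1
  have := finite_of_isFactorSystem hD
  rw [isSolvableSystem_iff_chain hS hF, isSolvableSystem_iff_chain (isPGroup_of_le hS hT.1) hEs,
    isSolvableSystem_iff_chain (isPGroup_of_isFactorSystem hS hD) (isSaturated_factor hS hF hT hD)]
  constructor
  · intro h
    refine ⟨?_, ?_⟩
    · have := scChain_inf hinv.1 h
      rwa [bot_inf_eq, inf_eq_right.2 hT.1] at this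
    · have := scChain_imageAlong hT hD h
      rwa [imageAlong_self, hD.2.2.1,
        show imageAlong θ ⊥ = ⊥ by rw [imageAlong, Subgroup.bot_subgroupOf, Subgroup.map_bot]] at this
  · rintro ⟨hE1, hD1⟩
    have h1 := scChain_autCore hinv hE1
    have h2 := scChain_preimageAlong (isSurjectiveMorphism_factor hS hF hT θ D hD).1 hD1
    have e1 : autCore F T ⊥ = ⊥ := le_bot_iff.1 (autCore_le ⊥)
    have e2 : autCore F T T = T :=
      le_antisymm (autCore_le T) fun x hx => mem_autCore.2 ⟨hx, fun α _ => (α _).2⟩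
    have e3 : preimageAlong θ ⊥ = T := by
      refine le_antisymm (fun x hx => ?_) fun x hx => mem_preimageAlong_of_eq_one (hT.1 hx) ((hD.2.1 _).2 hx)
      obtain ⟨hxS, h⟩ := mem_preimageAlong.1 hx
      exact (hD.2.1 ⟨x, hxS⟩).1 (Subgroup.mem_bot.1 h)
    have e4 : preimageAlong θ S' = S := by
      refine le_antisymm (preimageAlong_le _) fun x hx => mem_preimageAlong.2 ⟨hx, ?_⟩
      exact hD.2.2.1.le ⟨_, rfl⟩
    rw [e1, e2] at h1
    rw [e3, e4] at h2
    exact h1.trans h2

end CfsgLib.FusionQuot
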