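import Cfsg.Agent.Lib.FusionQuot.Induction

/-!
Every map of a saturated system extends, modulo a strongly closed subgroup, to the product with it; hence
every map induces a map of the factor system.
-/
set_option autoImplicit false

namespace CfsgLib.FusionQuot

open Cfsg Cfsg.FusionSystem CfsgLib.Fusion

variable {Ω : Type*} [Group Ω] {S : Subgroup Ω} {F : Cfsg.FusionSystem S} {p : ℕ} {A : Subgroup Ω}

/-- `φ` extends modulo `A` to `P ⊔ A`. -/
def ExtendsMod (F : Cfsg.FusionSystem S) (A P : Subgroup Ω) (φ : P →* Ω) : Prop :=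
  ∃ χ ∈ F.Hom (P ⊔ A), ∀ x : P, (φ x)⁻¹ * χ (Subgroup.inclusion le_sup_left x) ∈ A

theorem le_normalizer_of_stronglyClosed (hA : F.StronglyClosed A) {P : Subgroup Ω} (hP : P ≤ S) :
    P ≤ Subgroup.normalizer (A : Set Ω) := by
  have key : ∀ g ∈ S, ∀ n ∈ A, g * n * g⁻¹ ∈ A := fun g hg n hn =>
    (stronglyClosed_apply_iff hA (F.conj_mem le_rfl hg) ⟨n, hA.1 hn⟩).2 hn
  intro g hg
  refine Subgroup.mem_normalizer_iff.2 fun n => ⟨key g (hP hg) n, fun hn => ?_⟩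
  simpa [mul_assoc] using key g⁻¹ (S.inv_mem (hP hg)) _ hn

theorem exists_mul_of_mem_sup (hA : F.StronglyClosed A) {P : Subgroup Ω} (hP : P ≤ S) {z : Ω}
    (hz : z ∈ P ⊔ A) : ∃ x ∈ P, ∃ a ∈ A, z = x * a := by
  rw [← SetLike.mem_coe,
    Subgroup.coe_mul_of_left_le_normalizer_right P A (le_normalizer_of_stronglyClosed hA hP)] at hz
  obtain ⟨x, hx, a, ha, rfl⟩ := hz
  exact ⟨x, hx, a, ha, rfl⟩

theorem inv_mul_mem_trans {a b c : Ω} (h₁ : a⁻¹ * b ∈ A) (h₂ : b⁻¹ * c ∈ A) : a⁻¹ * c ∈ A := by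
  simpa [mul_assoc] using A.mul_mem h₁ h₂

theorem inv_mul_mem_symm {a b : Ω} (h : a⁻¹ * b ∈ A) : b⁻¹ * a ∈ A := by
  simpa using A.inv_mem h

theorem apply_inv_mul_mem (hA : F.StronglyClosed A) {P : Subgroup Ω} {φ : P →* Ω} (hφ : φ ∈ F.Hom P)
    {x y : P} (h : (x : Ω)⁻¹ * y ∈ A) : (φ x)⁻¹ * φ y ∈ A := by
  rw [← map_inv, ← map_mul]
  exact (stronglyClosed_apply_iff hA hφ _).2 h

theorem exists_extendsMod [Finite S] [Fact p.Prime] (hS : IsPGroup p S) (hF : F.IsSaturated p)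
    (hA : F.StronglyClosed A) : ∀ (P : Subgroup Ω) (φ : P →* Ω), φ ∈ F.Hom P → ExtendsMod F A P φ := by
  refine hom_induction hS hF (ExtendsMod F A) ?_ ?_ ?_ ?_ ?_
  · rintro P Q φ - h χ hχ ⟨ψ, hψ, hag⟩
    exact ⟨_, restrict_mem hψ (sup_le_sup_right h A), fun x => hχ x ▸ hag ⟨x, h x.2⟩⟩
  · rintro P Q φ ψ hφ - h χ hχ ⟨φ', hφ', hφa⟩ ⟨ψ', hψ', hψa⟩
    have hm : ∀ z : ↥(P ⊔ A), φ' z ∈ Q ⊔ A := fun z => by
      obtain ⟨x, hx, a, ha, hz⟩ := exists_mul_of_mem_sup hA (dom_le hφ) z.2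
      have e : z = Subgroup.inclusion le_sup_left ⟨x, hx⟩ * ⟨a, Subgroup.mem_sup_right ha⟩ :=
        Subtype.ext hz
      rw [e, map_mul]
      refine Subgroup.mul_mem _ ?_ (Subgroup.mem_sup_right ((stronglyClosed_apply_iff hA hφ' _).2 ha))
      have h1 := hφa ⟨x, hx⟩
      have := Subgroup.mul_mem (Q ⊔ A) (Subgroup.mem_sup_left (h ⟨x, hx⟩)) (Subgroup.mem_sup_right h1)
      simpa using this
    refine ⟨_, F.comp_mem hφ' hψ' hm, fun x => ?_⟩
    rw [hχ x]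
    refine inv_mul_mem_trans (hψa ⟨φ x, h x⟩) ?_
    exact apply_inv_mul_mem hA hψ' (x := Subgroup.inclusion le_sup_left ⟨φ x, h x⟩) (hφa x)
  · rintro P φ hφ Q rfl ψ hψ hinv ⟨φ', hφ', hφa⟩
    obtain ⟨ψ', hψ', hinv'⟩ := F.inv_mem hφ'
    have hA' : A ≤ φ'.range := le_range_of_le hA hφ' le_sup_right
    have hle : φ.range ⊔ A ≤ φ'.range := by
      refine sup_le ?_ hA'
      rintro _ ⟨x, rfl⟩
      have hr : φ' (Subgroup.inclusion le_sup_left x) ∈ φ'.range := ⟨_, rfl⟩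
      have := φ'.range.mul_mem hr (hA' (inv_mul_mem_symm (hφa x)))
      rwa [mul_inv_cancel_left] at this
    refine ⟨_, restrict_mem hψ' hle, ?_⟩
    rintro ⟨_, x, rfl⟩
    rw [hinv x ⟨x, rfl⟩]
    have h1 := apply_inv_mul_mem hA hψ'
      (x := ⟨φ' (Subgroup.inclusion le_sup_left x), ⟨_, rfl⟩⟩)
      (y := ⟨φ x, hle (Subgroup.mem_sup_left ⟨x, rfl⟩)⟩) (inv_mul_mem_symm (hφa x))
    rw [hinv'] at h1
    exact h1
  · intro φ hφ
    exact ⟨_, restrict_mem hφ (sup_le le_rfl hA.1), fun x => (inv_mul_cancel (φ x)).symm ▸ A.one_mem⟩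
  · intro Q hQ hQS ih α hα
    by_cases hAQ : A ≤ Q
    · exact ⟨_, restrict_mem ((mem_autGroup_iff_hom hQ.1).1 hα) (sup_le le_rfl hAQ),
        fun x => (inv_mul_cancel ((α x : Q) : Ω)).symm ▸ A.one_mem⟩
    let K : Subgroup (F.autGroup Q) :=
      { carrier := {κ | ∀ x : Q, (x : Ω)⁻¹ * ((κ : MulAut Q) x : Q) ∈ A}
        one_mem' := fun x => by simp
        mul_mem' := fun {a b} ha hb x => inv_mul_mem_trans (hb x) (ha ((b : MulAut Q) x))
        inv_mem' := fun {a} ha x => by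
          have := inv_mul_mem_symm (ha ((a⁻¹ : MulAut Q) x))
          simpa using this }
    have hKn : K.Normal := ⟨fun κ hκ β x => by
      have h1 := apply_inv_mul_mem hA ((mem_autGroup_iff_hom hQ.1).1 β.2)
        (x := (β⁻¹ : MulAut Q) x) (hκ ((β⁻¹ : MulAut Q) x))
      simpa using h1⟩
    have hKA : ∀ g (hg : g ∈ Subgroup.normalizer (Q : Set Ω)) (hgA : g ∈ A),
        (⟨conjAut Q g hg, autInducedBy_le_autGroup F hQ.1 (conjAut_mem_autInducedBy (hA.1 hgA) hg)⟩ :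
          F.autGroup Q) ∈ K := fun g hg hgA x => by
      show (x : Ω)⁻¹ * (g * x * g⁻¹) ∈ A
      have h1 := (Subgroup.mem_normalizer_iff.1
        (Subgroup.inv_mem _ (le_normalizer_of_stronglyClosed hA hQ.1 x.2)) g).1 hgA
      simpa [mul_assoc] using A.mul_mem h1 (A.inv_mem hgA)
    obtain ⟨κ, hκ, β, hαβ, V, hQV, hVS, hV, ψ, hψ, hψβ⟩ :=
      exists_extending_factor hS hF hQ hA hAQ K hKA ⟨α, hα⟩
    obtain ⟨χ, hχ, hχa⟩ := ih V ψ hψ (card_lt_of_lt hQV hVS)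
    refine ⟨_, restrict_mem hχ (sup_le_sup_right hV A), fun x => ?_⟩
    have h1 := hχa ⟨x, hV x.2⟩
    rw [hψβ x] at h1
    refine inv_mul_mem_trans ?_ h1
    have h2 : α x = (κ : MulAut Q) ((β : MulAut Q) x) :=
      congrArg (fun γ : F.autGroup Q => (γ : MulAut Q) x) hαβ
    show ((α x : Q) : Ω)⁻¹ * _ ∈ A
    rw [h2]
    exact inv_mul_mem_symm (hκ _)

/-- In a saturated system, every map induces a map of the factor system: the quotient map is a surjective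
morphism. -/
theorem isSurjectiveMorphism_factor [Finite S] [Fact p.Prime] (hS : IsPGroup p S) (hF : F.IsSaturated p)
    (hA : F.StronglyClosed A) {Ω' : Type*} [Group Ω'] {S' : Subgroup Ω'} (θ : S →* Ω')
    (E : Cfsg.FusionSystem S') (hE : F.IsFactorSystem A θ E) : F.IsSurjectiveMorphism E θ := by
  obtain ⟨-, hθ, hr, hmem⟩ := hE
  refine ⟨⟨fun s => hr ▸ ⟨s, rfl⟩, fun P φ hφ => ?_⟩, hr, fun P' hP' φ' hφ' => ((hmem P' φ').1 hφ').2⟩
  have hPS : P ≤ S := dom_le hφ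
  obtain ⟨χ, hχ, hχa⟩ := exists_extendsMod hS hF hA P φ hφ
  have hker : ∀ x : ↥(P ⊔ A), θ ⟨x, dom_le hχ x.2⟩ = 1 → θ ⟨χ x, map_mem hχ x⟩ = 1 := fun x h =>
    (hθ _).2 ((stronglyClosed_apply_iff hA hχ x).2 ((hθ _).1 h))
  have heq : preimageAlong θ (imageAlong θ P) = P ⊔ A := by
    refine le_antisymm ?_ ?_
    · exact (preimageAlong_mono (imageAlong_mono le_sup_left)).trans
        (preimageAlong_imageAlong (dom_le hχ) fun x hx h =>
          Subgroup.mem_sup_right ((hθ ⟨x, hx⟩).1 h)).le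
    · exact sup_le (le_preimageAlong_imageAlong hPS) fun a ha =>
        mem_preimageAlong_of_eq_one (hA.1 ha) ((hθ ⟨a, hA.1 ha⟩).2 ha)
  obtain ⟨χ', hχ'⟩ := exists_induced (dom_le hχ) (map_mem hχ) hker
  refine ⟨χ'.comp (Subgroup.inclusion (imageAlong_mono le_sup_left)), (hmem _ _).2
    ⟨hr ▸ imageAlong_le_range P, _, restrict_mem hχ heq.le, preimageAlong_le _,
      map_mem (restrict_mem hχ heq.le), fun x => (mem_preimageAlong.1 x.2).2,
      fun x => induced_apply hχ' ⟨x, heq.le x.2⟩ _ _ _⟩, hPS, map_mem hφ,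
    fun x => apply_mem_imageAlong _ x.2, fun x => ?_⟩
  refine (induced_apply hχ' (Subgroup.inclusion le_sup_left x) (hPS x.2) _ (map_mem hχ _)).trans ?_
  have h2 : θ (⟨φ x, map_mem hφ x⟩⁻¹ * ⟨_, map_mem hχ (Subgroup.inclusion le_sup_left x)⟩) = 1 :=
    (hθ _).2 (hχa x)
  rw [map_mul, map_inv, inv_mul_eq_one] at h2
  exact h2.symm

end CfsgLib.FusionQuot
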