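import Cfsg.Agent.Lib.FusionQuot.Product
import Cfsg.Agent.Lib.FusionQuot.SylowTools

/-!
The direct product of saturated fusion systems is saturated.
-/
set_option autoImplicit false

namespace CfsgLib.FusionQuot

open Cfsg Cfsg.FusionSystem CfsgLib.Fusion

/-- Automorphisms stabilising a subgroup, inside a group acting through `ρ`. -/
def stabSubgroup {A G : Type*} [Group A] [Group G] (ρ : A →* MulAut G) (B : Subgroup G) : Subgroup A where
  carrier := {a | B.map (ρ a).toMonoidHom = B}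
  one_mem' := by
    show B.map (ρ 1).toMonoidHom = B
    rw [map_one]
    exact Subgroup.map_id B
  mul_mem' {a b} ha hb := by
    show B.map (ρ (a * b)).toMonoidHom = B
    rw [map_mul]
    calc B.map (ρ a * ρ b).toMonoidHom = (B.map (ρ b).toMonoidHom).map (ρ a).toMonoidHom := by
          rw [Subgroup.map_map]; rfl
      _ = B := by rw [hb, ha]
  inv_mem' {a} ha := by
    show B.map (ρ a⁻¹).toMonoidHom = B
    conv_lhs => rw [← (ha : B.map (ρ a).toMonoidHom = B), Subgroup.map_map]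
    conv_rhs => rw [← Subgroup.map_id B]
    congr 1
    ext x
    simp [map_inv]

theorem stabSubgroup_apply_mem {A G : Type*} [Group A] [Group G] {ρ : A →* MulAut G} {B : Subgroup G}
    (a : stabSubgroup ρ B) {x : G} (hx : x ∈ B) : ρ a x ∈ B :=
  (a.2 : B.map (ρ (a : A)).toMonoidHom = B).le (Subgroup.mem_map_of_mem _ hx)

/-- The action of the stabiliser of `B` on `B`. -/
def stabHom {A G : Type*} [Group A] [Group G] (ρ : A →* MulAut G) (B : Subgroup G) :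
    stabSubgroup ρ B →* MulAut B where
  toFun a :=
    { toFun := fun x => ⟨ρ a x, stabSubgroup_apply_mem a x.2⟩
      invFun := fun x => ⟨ρ ((a⁻¹ : stabSubgroup ρ B) : A) x, stabSubgroup_apply_mem a⁻¹ x.2⟩
      left_inv := fun x => Subtype.ext (by simp)
      right_inv := fun x => Subtype.ext (by simp)
      map_mul' := fun x y => Subtype.ext (map_mul (ρ (a : A)) _ _) }
  map_one' := by ext x; simp
  map_mul' a b := by ext x; simp

theorem stabHom_apply {A G : Type*} [Group A] [Group G] (ρ : A →* MulAut G) (B : Subgroup G)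
    (a : stabSubgroup ρ B) (x : B) : ((stabHom ρ B a x : B) : G) = ρ a x := rfl

variable {Ω₁ Ω₂ : Type*} [Group Ω₁] [Group Ω₂] {S₁ : Subgroup Ω₁} {S₂ : Subgroup Ω₂}
variable {F₁ : Cfsg.FusionSystem S₁} {F₂ : Cfsg.FusionSystem S₂}

theorem productSystem_isReceptive {Q : Subgroup (Ω₁ × Ω₂)} {Q₁ : Subgroup Ω₁} {Q₂ : Subgroup Ω₂}
    (hQ : Q ≤ S₁.prod S₂) (h₁ : Q.map (MonoidHom.fst Ω₁ Ω₂) = Q₁)
    (h₂ : Q.map (MonoidHom.snd Ω₁ Ω₂) = Q₂) (r₁ : F₁.IsReceptive Q₁) (r₂ : F₂.IsReceptive Q₂) :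
    (productSystem F₁ F₂).IsReceptive Q := by
  refine ⟨hQ, ?_⟩
  rintro R φ ⟨hR, φ₁, hφ₁, φ₂, hφ₂, rfl⟩ hr
  have q₁ : φ₁.range = Q₁ := by rw [← range_prodRestrict_fst R φ₁ φ₂, hr, h₁]
  have q₂ : φ₂.range = Q₂ := by rw [← range_prodRestrict_snd R φ₁ φ₂, hr, h₂]
  obtain ⟨ψ₁, hψ₁, e₁⟩ := r₁.2 _ φ₁ hφ₁ q₁
  obtain ⟨ψ₂, hψ₂, e₂⟩ := r₂.2 _ φ₂ hφ₂ q₂
  set N := extender (S₁.prod S₂) R (prodRestrict R φ₁ φ₂) with hN
  have n₁ : N.map (MonoidHom.fst Ω₁ Ω₂) ≤ extender S₁ (R.map (MonoidHom.fst Ω₁ Ω₂)) φ₁ := by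
    rintro _ ⟨g, hg, rfl⟩
    obtain ⟨hgS, hgR, h, hh, he⟩ := mem_extender_iff.1 hg
    refine mem_extender_iff.2 ⟨hgS.1, Subgroup.le_normalizer_map _ (Subgroup.mem_map_of_mem _ hgR),
      h.1, hh.1, ?_⟩
    rintro ⟨a, ha⟩ hx
    obtain ⟨x, hx', rfl⟩ := Subgroup.mem_map.1 ha
    have := congrArg Prod.fst (he ⟨x, hx'⟩ (conj_mem_of_mem_normalizer hgR hx'))
    exact this
  have n₂ : N.map (MonoidHom.snd Ω₁ Ω₂) ≤ extender S₂ (R.map (MonoidHom.snd Ω₁ Ω₂)) φ₂ := by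
    rintro _ ⟨g, hg, rfl⟩
    obtain ⟨hgS, hgR, h, hh, he⟩ := mem_extender_iff.1 hg
    refine mem_extender_iff.2 ⟨hgS.2, Subgroup.le_normalizer_map _ (Subgroup.mem_map_of_mem _ hgR),
      h.2, hh.2, ?_⟩
    rintro ⟨a, ha⟩ hx
    obtain ⟨x, hx', rfl⟩ := Subgroup.mem_map.1 ha
    have := congrArg Prod.snd (he ⟨x, hx'⟩ (conj_mem_of_mem_normalizer hgR hx'))
    exact this
  refine ⟨prodRestrict N (ψ₁.comp (Subgroup.inclusion n₁)) (ψ₂.comp (Subgroup.inclusion n₂)),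
    ⟨fun g hg => (mem_extender_iff.1 hg).1, _, restrict_mem hψ₁ n₁, _, restrict_mem hψ₂ n₂, rfl⟩,
    fun x hP hx => ?_⟩
  refine Prod.ext ?_ ?_
  · exact e₁ x.1 (mem_fst_map ⟨x, hP⟩) _
  · exact e₂ x.2 (mem_snd_map ⟨x, hP⟩) _

theorem isPGroup_autInducedBy {Ω : Type*} [Group Ω] {p : ℕ} {K : Subgroup Ω} (hK : IsPGroup p K)
    (P : Subgroup Ω) : IsPGroup p (autInducedBy K P) := by
  rw [autInducedBy_eq_map]
  refine IsPGroup.map (IsPGroup.of_injective hK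
    ({ toFun := fun x => ⟨((x : Subgroup.normalizer (P : Set Ω)) : Ω), x.2⟩
       map_one' := rfl
       map_mul' := fun _ _ => rfl } :
      ↥(K.subgroupOf (Subgroup.normalizer (P : Set Ω))) →* K) ?_) _
  exact fun a b h => Subtype.ext (Subtype.ext (congrArg Subtype.val h :))

theorem isPGroup_subgroup_prod {p : ℕ} [Fact p.Prime] (h₁ : IsPGroup p S₁) (h₂ : IsPGroup p S₂) :
    IsPGroup p (S₁.prod S₂) :=
  (isPGroup_prod h₁ h₂).of_injective (Subgroup.prodEquiv S₁ S₂).toMonoidHom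
    (Subgroup.prodEquiv S₁ S₂).injective

/-- The product of two subgroups of the automorphism groups, acting on the product. -/
def prodAutHom {M N : Type*} [Group M] [Group N] (A₁ : Subgroup (MulAut M)) (A₂ : Subgroup (MulAut N)) :
    A₁ × A₂ →* MulAut (M × N) where
  toFun a := MulEquiv.prodCongr (a.1 : MulAut M) (a.2 : MulAut N)
  map_one' := rfl
  map_mul' _ _ := rfl

theorem productSystem_isSaturated {p : ℕ} [Fact p.Prime] [Finite S₁] [Finite S₂]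
    (h₁ : IsPGroup p S₁) (h₂ : IsPGroup p S₂)
    (hF₁ : F₁.IsSaturated p) (hF₂ : F₂.IsSaturated p) : (productSystem F₁ F₂).IsSaturated p := by
  intro P hP
  obtain ⟨Q₁, c₁, a₁, r₁⟩ := hF₁ _ (map_fst_le hP)
  obtain ⟨Q₂, c₂, a₂, r₂⟩ := hF₂ _ (map_snd_le hP)
  obtain ⟨e₁, he₁⟩ := exists_iso_of_isConj c₁
  obtain ⟨e₂, he₂⟩ := exists_iso_of_isConj c₂
  have := finite_of_le (S := S₁) a₁.1
  have := finite_of_le (S := S₂) a₂.1
  let ρ := prodAutHom (F₁.autGroup Q₁) (F₂.autGroup Q₂)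
  let ε : P →* Q₁ × Q₂ := MonoidHom.prod (e₁.toMonoidHom.comp ((MonoidHom.fst Ω₁ Ω₂).subgroupMap P))
    (e₂.toMonoidHom.comp ((MonoidHom.snd Ω₁ Ω₂).subgroupMap P))
  let B₀ := ε.range
  obtain ⟨R₀⟩ : Nonempty (Sylow p (stabSubgroup ρ B₀)) := inferInstance
  obtain ⟨T₁, hT₁⟩ := a₁.2
  obtain ⟨T₂, hT₂⟩ := a₂.2
  obtain ⟨g₁, hg₁⟩ := exists_conj_mem_sylow T₁
    (R₀.2.map ((MonoidHom.fst _ _).comp (stabSubgroup ρ B₀).subtype))
  obtain ⟨g₂, hg₂⟩ := exists_conj_mem_sylow T₂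
    (R₀.2.map ((MonoidHom.snd _ _).comp (stabSubgroup ρ B₀).subtype))
  set γ : F₁.autGroup Q₁ × F₂.autGroup Q₂ := (g₁, g₂) with hγ
  let B := B₀.map (ρ γ).toMonoidHom
  let ι : Q₁ × Q₂ →* Ω₁ × Ω₂ := MonoidHom.prodMap Q₁.subtype Q₂.subtype
  have hι : Function.Injective ι :=
    fun a b h => Prod.ext (Subtype.ext (Prod.ext_iff.1 h).1) (Subtype.ext (Prod.ext_iff.1 h).2)
  let Q := B.map ι
  -- the map carrying `P` onto `Q`
  have hf₁ : IsFIso F₁ (e₁.trans (g₁ : MulAut Q₁)) :=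
    he₁.trans ((mem_autGroup_iff a₁.1).1 g₁.2)
  have hf₂ : IsFIso F₂ (e₂.trans (g₂ : MulAut Q₂)) :=
    he₂.trans ((mem_autGroup_iff a₂.1).1 g₂.2)
  let φ₁ := Q₁.subtype.comp (e₁.trans (g₁ : MulAut Q₁)).toMonoidHom
  let φ₂ := Q₂.subtype.comp (e₂.trans (g₂ : MulAut Q₂)).toMonoidHom
  have hφ : prodRestrict P φ₁ φ₂ ∈ (productSystem F₁ F₂).Hom P := ⟨hP, φ₁, hf₁, φ₂, hf₂, rfl⟩
  have hrange : (prodRestrict P φ₁ φ₂).range = Q := by
    show _ = ((ε.range).map _).map ι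
    rw [MonoidHom.map_range, MonoidHom.map_range]
    rfl
  have hp₁ : Q.map (MonoidHom.fst Ω₁ Ω₂) = Q₁ := by
    rw [← hrange, range_prodRestrict_fst]
    exact range_subtype_comp _
  have hp₂ : Q.map (MonoidHom.snd Ω₁ Ω₂) = Q₂ := by
    rw [← hrange, range_prodRestrict_snd]
    exact range_subtype_comp _
  have hQS : Q ≤ S₁.prod S₂ := hrange ▸ range_le hφ
  refine ⟨Q, ⟨_, hφ, hrange⟩, ⟨hQS, ?_⟩, productSystem_isReceptive hQS hp₁ hp₂ r₁ r₂⟩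
  -- fully automized
  let j : B ≃* Q := B.equivMapOfInjective ι hι
  let τ : stabSubgroup ρ B →* MulAut Q := (MulAut.congr j).toMonoidHom.comp (stabHom ρ B)
  have hτ : ∀ (a : stabSubgroup ρ B) (x : Q), ((τ a x : Q) : Ω₁ × Ω₂) = ι (ρ a (j.symm x)) :=
    fun a x => rfl
  have hj : ∀ x : Q, ι (j.symm x : B) = (x : Ω₁ × Ω₂) := fun x => by
    conv_rhs => rw [← j.apply_symm_apply x]
    rfl
  have hτle : ∀ a, τ a ∈ (productSystem F₁ F₂).autGroup Q := by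
    intro a
    rw [mem_autGroup_iff_hom hQS]
    refine ⟨hQS, (Q₁.subtype.comp ((a.val.1 : MulAut Q₁)).toMonoidHom).comp
      (Subgroup.inclusion hp₁.le), restrict_mem ((mem_autGroup_iff a₁.1).1 a.val.1.2) _,
      (Q₂.subtype.comp ((a.val.2 : MulAut Q₂)).toMonoidHom).comp
      (Subgroup.inclusion hp₂.le), restrict_mem ((mem_autGroup_iff a₂.1).1 a.val.2.2) _,
      MonoidHom.ext fun x => ?_⟩
    show ((τ a x : Q) : Ω₁ × Ω₂) = _
    rw [hτ, prodRestrict_apply]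
    refine Prod.ext ?_ ?_
    · exact congrArg (fun z => ((a.val.1 : MulAut Q₁) z : Ω₁))
        (Subtype.ext (congrArg Prod.fst (hj x)) : (j.symm x : Q₁ × Q₂).1 = ⟨_, hp₁.le (mem_fst_map x)⟩)
    · exact congrArg (fun z => ((a.val.2 : MulAut Q₂) z : Ω₂))
        (Subtype.ext (congrArg Prod.snd (hj x)) : (j.symm x : Q₁ × Q₂).2 = ⟨_, hp₂.le (mem_snd_map x)⟩)
  let τ' : stabSubgroup ρ B →* (productSystem F₁ F₂).autGroup Q := τ.codRestrict _ hτle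
  have hsurj : Function.Surjective τ' := by
    rintro ⟨α, hα⟩
    obtain ⟨-, ψ₁, k₁, ψ₂, k₂, hψ⟩ := (mem_autGroup_iff_hom hQS).1 hα
    have hαr : (prodRestrict Q ψ₁ ψ₂).range = Q := hψ ▸ range_subtype_comp α
    have u₁ : (ψ₁.comp (Subgroup.inclusion hp₁.ge)).range = Q₁ := by
      rw [MonoidHom.range_comp, MonoidHom.range_eq_top.2, ← MonoidHom.range_eq_map,
        ← range_prodRestrict_fst Q ψ₁ ψ₂, hαr, hp₁]
      intro x
      exact ⟨⟨x, hp₁.le x.2⟩, rfl⟩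
    have u₂ : (ψ₂.comp (Subgroup.inclusion hp₂.ge)).range = Q₂ := by
      rw [MonoidHom.range_comp, MonoidHom.range_eq_top.2, ← MonoidHom.range_eq_map,
        ← range_prodRestrict_snd Q ψ₁ ψ₂, hαr, hp₂]
      intro x
      exact ⟨⟨x, hp₂.le x.2⟩, rfl⟩
    obtain ⟨b₁, hb₁, hb₁'⟩ := exists_aut (restrict_mem k₁ hp₁.ge) u₁
    obtain ⟨b₂, hb₂, hb₂'⟩ := exists_aut (restrict_mem k₂ hp₂.ge) u₂
    set b : F₁.autGroup Q₁ × F₂.autGroup Q₂ := (⟨b₁, hb₁⟩, ⟨b₂, hb₂⟩) with hb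
    have key : ∀ x : B, ι (ρ b x) = ((α (j x) : Q) : Ω₁ × Ω₂) := by
      intro x
      rw [show ((α (j x) : Q) : Ω₁ × Ω₂) = prodRestrict Q ψ₁ ψ₂ (j x) from
        DFunLike.congr_fun hψ (j x), prodRestrict_apply]
      refine Prod.ext ?_ ?_
      · exact hb₁' (x : Q₁ × Q₂).1
      · exact hb₂' (x : Q₁ × Q₂).2
    have hbB : B.map (ρ b).toMonoidHom = B := by
      refine le_antisymm ?_ fun y hy => ?_
      · rintro _ ⟨x, hx, rfl⟩
        have h3 : ι (ρ b x) ∈ Q := key ⟨x, hx⟩ ▸ (α _).2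
        obtain ⟨z, hz, hz'⟩ := h3
        exact hι hz' ▸ hz
      · refine ⟨j.symm (α⁻¹ (j ⟨y, hy⟩)), (j.symm _).2, hι ?_⟩
        show ι (ρ b _) = ι y
        rw [key]
        simp [j]
        rfl
    refine ⟨⟨b, hbB⟩, Subtype.ext (MulEquiv.ext fun x => Subtype.ext ?_)⟩
    show ((τ ⟨b, hbB⟩ x : Q) : Ω₁ × Ω₂) = _
    rw [hτ, key, MulEquiv.apply_symm_apply]
  -- the Sylow subgroup of the stabiliser of `B`
  have hconj : ∀ a, a ∈ stabSubgroup ρ B₀ → γ * a * γ⁻¹ ∈ stabSubgroup ρ B := by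
    intro a ha
    show (B₀.map (ρ γ).toMonoidHom).map (ρ (γ * a * γ⁻¹)).toMonoidHom = B₀.map (ρ γ).toMonoidHom
    conv_rhs => rw [← (ha : B₀.map (ρ a).toMonoidHom = B₀)]
    rw [Subgroup.map_map, Subgroup.map_map]
    congr 1
    ext x <;> simp [map_mul]
  have hconj' : ∀ a, a ∈ stabSubgroup ρ B → γ⁻¹ * a * γ ∈ stabSubgroup ρ B₀ := by
    intro a ha
    show B₀.map (ρ (γ⁻¹ * a * γ)).toMonoidHom = B₀
    have h := congrArg (Subgroup.map (ρ γ⁻¹).toMonoidHom) ha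
    rw [Subgroup.map_map, Subgroup.map_map, Subgroup.map_map] at h
    refine Eq.trans ?_ (h.trans ?_)
    · congr 1
    · conv_rhs => rw [← Subgroup.map_id B₀]
      congr 1
      ext x <;> simp
  let c : stabSubgroup ρ B₀ →* stabSubgroup ρ B :=
    ((MulAut.conj γ).toMonoidHom.comp (stabSubgroup ρ B₀).subtype).codRestrict _
      fun a => hconj a a.2
  have hc : Function.Surjective c := fun a =>
    ⟨⟨γ⁻¹ * a * γ, hconj' a a.2⟩, Subtype.ext (show γ * (γ⁻¹ * a * γ) * γ⁻¹ = a.val by group)⟩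
  let R : Sylow p (stabSubgroup ρ B) := R₀.mapSurjective hc
  have hle : (R.mapSurjective hsurj).toSubgroup ≤
      (autInducedBy (S₁.prod S₂) Q).subgroupOf ((productSystem F₁ F₂).autGroup Q) := by
    rw [Sylow.coe_mapSurjective]
    rintro _ ⟨_, ⟨a, ha, rfl⟩, rfl⟩
    have t₁ := hg₁ a.val.1 (Subgroup.mem_map_of_mem _ ha)
    have t₂ := hg₂ a.val.2 (Subgroup.mem_map_of_mem _ ha)
    rw [hT₁] at t₁
    rw [hT₂] at t₂
    obtain ⟨s₁, hs₁, hs₁'⟩ := mem_autInducedBy_iff.1 t₁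
    obtain ⟨s₂, hs₂, hs₂'⟩ := mem_autInducedBy_iff.1 t₂
    refine mem_autInducedBy_iff.2 ⟨(s₁, s₂), ⟨hs₁, hs₂⟩, fun x => ?_⟩
    show ((τ (c a) x : Q) : Ω₁ × Ω₂) = _
    rw [hτ]
    conv_rhs => rw [← hj x]
    exact Prod.ext (hs₁' _) (hs₂' _)
  have : Finite (S₁.prod S₂) := Finite.of_equiv _ (Subgroup.prodEquiv S₁ S₂).symm.toEquiv
  have : Finite Q := finite_of_le (S := S₁.prod S₂) hQS
  exact exists_sylow_eq_of_le
    ((isPGroup_autInducedBy (isPGroup_subgroup_prod h₁ h₂) Q).comap_of_injective _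
      Subtype.coe_injective) _ hle

end CfsgLib.FusionQuot
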