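import Mathlib.Algebra.Group.Subgroup.Finite
import Cfsg.Prelude.Def_FusionComponents
import Cfsg.Agent.Lib.Fusion.Basic

/-!
Direct products of fusion systems.
-/
set_option autoImplicit false

namespace CfsgLib.FusionQuot

open Cfsg Cfsg.FusionSystem CfsgLib.Fusion

variable {Ω₁ Ω₂ : Type*} [Group Ω₁] [Group Ω₂] {S₁ : Subgroup Ω₁} {S₂ : Subgroup Ω₂}

theorem mem_fst_map {P : Subgroup (Ω₁ × Ω₂)} (x : P) :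
    (x : Ω₁ × Ω₂).1 ∈ P.map (MonoidHom.fst Ω₁ Ω₂) :=
  Subgroup.mem_map_of_mem _ x.2

theorem mem_snd_map {P : Subgroup (Ω₁ × Ω₂)} (x : P) :
    (x : Ω₁ × Ω₂).2 ∈ P.map (MonoidHom.snd Ω₁ Ω₂) :=
  Subgroup.mem_map_of_mem _ x.2

/-- The restriction to `P` of a pair of maps on its projections. -/
def prodRestrict (P : Subgroup (Ω₁ × Ω₂)) (φ₁ : P.map (MonoidHom.fst Ω₁ Ω₂) →* Ω₁)
    (φ₂ : P.map (MonoidHom.snd Ω₁ Ω₂) →* Ω₂) : P →* Ω₁ × Ω₂ :=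
  MonoidHom.prod (φ₁.comp ((MonoidHom.fst Ω₁ Ω₂).subgroupMap P))
    (φ₂.comp ((MonoidHom.snd Ω₁ Ω₂).subgroupMap P))

theorem prodRestrict_apply (P : Subgroup (Ω₁ × Ω₂)) (φ₁ : P.map (MonoidHom.fst Ω₁ Ω₂) →* Ω₁)
    (φ₂ : P.map (MonoidHom.snd Ω₁ Ω₂) →* Ω₂) (x : P) :
    prodRestrict P φ₁ φ₂ x = (φ₁ ⟨_, mem_fst_map x⟩, φ₂ ⟨_, mem_snd_map x⟩) := rfl

theorem map_fst_le {P : Subgroup (Ω₁ × Ω₂)} (h : P ≤ S₁.prod S₂) :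
    P.map (MonoidHom.fst Ω₁ Ω₂) ≤ S₁ := by
  rintro _ ⟨x, hx, rfl⟩
  exact (h hx).1

theorem map_snd_le {P : Subgroup (Ω₁ × Ω₂)} (h : P ≤ S₁.prod S₂) :
    P.map (MonoidHom.snd Ω₁ Ω₂) ≤ S₂ := by
  rintro _ ⟨x, hx, rfl⟩
  exact (h hx).2

theorem range_prodRestrict_fst (P : Subgroup (Ω₁ × Ω₂)) (φ₁ : P.map (MonoidHom.fst Ω₁ Ω₂) →* Ω₁)
    (φ₂ : P.map (MonoidHom.snd Ω₁ Ω₂) →* Ω₂) :
    (prodRestrict P φ₁ φ₂).range.map (MonoidHom.fst Ω₁ Ω₂) = φ₁.range := by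
  ext y
  constructor
  · rintro ⟨_, ⟨x, rfl⟩, rfl⟩
    exact ⟨_, rfl⟩
  · rintro ⟨⟨a, ha⟩, rfl⟩
    obtain ⟨x, hx, rfl⟩ := Subgroup.mem_map.1 ha
    exact ⟨_, ⟨⟨x, hx⟩, rfl⟩, rfl⟩

theorem range_prodRestrict_snd (P : Subgroup (Ω₁ × Ω₂)) (φ₁ : P.map (MonoidHom.fst Ω₁ Ω₂) →* Ω₁)
    (φ₂ : P.map (MonoidHom.snd Ω₁ Ω₂) →* Ω₂) :
    (prodRestrict P φ₁ φ₂).range.map (MonoidHom.snd Ω₁ Ω₂) = φ₂.range := by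
  ext y
  constructor
  · rintro ⟨_, ⟨x, rfl⟩, rfl⟩
    exact ⟨_, rfl⟩
  · rintro ⟨⟨a, ha⟩, rfl⟩
    obtain ⟨x, hx, rfl⟩ := Subgroup.mem_map.1 ha
    exact ⟨_, ⟨⟨x, hx⟩, rfl⟩, rfl⟩

/-- The direct product of two fusion systems. -/
def productSystem (F₁ : Cfsg.FusionSystem S₁) (F₂ : Cfsg.FusionSystem S₂) :
    Cfsg.FusionSystem (S₁.prod S₂) where
  Hom P := {φ | P ≤ S₁.prod S₂ ∧
      ∃ φ₁ ∈ F₁.Hom (P.map (MonoidHom.fst Ω₁ Ω₂)), ∃ φ₂ ∈ F₂.Hom (P.map (MonoidHom.snd Ω₁ Ω₂)),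
        φ = prodRestrict P φ₁ φ₂}
  le_of_mem := by
    rintro P φ ⟨hP, φ₁, h₁, φ₂, h₂, rfl⟩
    exact ⟨hP, fun x => ⟨map_mem h₁ _, map_mem h₂ _⟩⟩
  injective_of_mem := by
    rintro P φ ⟨hP, φ₁, h₁, φ₂, h₂, rfl⟩ a b hab
    rw [prodRestrict_apply, prodRestrict_apply, Prod.ext_iff] at hab
    exact Subtype.ext (Prod.ext (congrArg Subtype.val (hom_inj h₁ hab.1))
      (congrArg Subtype.val (hom_inj h₂ hab.2)))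
  conj_mem := by
    intro P g hP hg
    exact ⟨hP, _, F₁.conj_mem (map_fst_le hP) hg.1, _, F₂.conj_mem (map_snd_le hP) hg.2,
      MonoidHom.ext fun _ => rfl⟩
  comp_mem := by
    rintro P Q φ ψ ⟨hP, φ₁, h₁, φ₂, h₂, rfl⟩ ⟨-, ψ₁, k₁, ψ₂, k₂, rfl⟩ h
    have m₁ : ∀ a : P.map (MonoidHom.fst Ω₁ Ω₂), φ₁ a ∈ Q.map (MonoidHom.fst Ω₁ Ω₂) := by
      rintro ⟨a, ha⟩
      obtain ⟨x, hx, rfl⟩ := Subgroup.mem_map.1 ha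
      exact ⟨_, h ⟨x, hx⟩, rfl⟩
    have m₂ : ∀ a : P.map (MonoidHom.snd Ω₁ Ω₂), φ₂ a ∈ Q.map (MonoidHom.snd Ω₁ Ω₂) := by
      rintro ⟨a, ha⟩
      obtain ⟨x, hx, rfl⟩ := Subgroup.mem_map.1 ha
      exact ⟨_, h ⟨x, hx⟩, rfl⟩
    exact ⟨hP, _, F₁.comp_mem h₁ k₁ m₁, _, F₂.comp_mem h₂ k₂ m₂, MonoidHom.ext fun _ => rfl⟩
  inv_mem := by
    rintro P φ ⟨hP, φ₁, h₁, φ₂, h₂, rfl⟩
    obtain ⟨ψ₁, k₁, i₁⟩ := F₁.inv_mem h₁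
    obtain ⟨ψ₂, k₂, i₂⟩ := F₂.inv_mem h₂
    refine ⟨prodRestrict _ (ψ₁.comp (Subgroup.inclusion (range_prodRestrict_fst P φ₁ φ₂).le))
      (ψ₂.comp (Subgroup.inclusion (range_prodRestrict_snd P φ₁ φ₂).le)),
      ⟨?_, _, restrict_mem k₁ _, _, restrict_mem k₂ _, rfl⟩, fun x => ?_⟩
    · rintro _ ⟨x, rfl⟩
      exact ⟨map_mem h₁ _, map_mem h₂ _⟩
    · exact Prod.ext (i₁ ⟨_, mem_fst_map x⟩) (i₂ ⟨_, mem_snd_map x⟩)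

theorem mem_isProductSystem_iff {F₁ : Cfsg.FusionSystem S₁} {F₂ : Cfsg.FusionSystem S₂}
    {E : Cfsg.FusionSystem (S₁.prod S₂)} (hE : IsProductSystem F₁ F₂ E) {P : Subgroup (Ω₁ × Ω₂)}
    {φ : P →* Ω₁ × Ω₂} : φ ∈ E.Hom P ↔ φ ∈ (productSystem F₁ F₂).Hom P := by
  rw [hE P φ]
  constructor
  · rintro ⟨hP, φ₁, h₁, φ₂, h₂, h⟩
    exact ⟨hP, φ₁, h₁, φ₂, h₂, MonoidHom.ext fun x => h x (mem_fst_map x) (mem_snd_map x)⟩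
  · rintro ⟨hP, φ₁, h₁, φ₂, h₂, rfl⟩
    exact ⟨hP, φ₁, h₁, φ₂, h₂, fun x _ _ => rfl⟩

theorem productSystem_isProductSystem (F₁ : Cfsg.FusionSystem S₁) (F₂ : Cfsg.FusionSystem S₂) :
    IsProductSystem F₁ F₂ (productSystem F₁ F₂) := by
  intro P φ
  constructor
  · rintro ⟨hP, φ₁, h₁, φ₂, h₂, rfl⟩
    exact ⟨hP, φ₁, h₁, φ₂, h₂, fun x _ _ => rfl⟩
  · rintro ⟨hP, φ₁, h₁, φ₂, h₂, h⟩
    exact ⟨hP, φ₁, h₁, φ₂, h₂, MonoidHom.ext fun x => h x (mem_fst_map x) (mem_snd_map x)⟩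

theorem eq_productSystem {F₁ : Cfsg.FusionSystem S₁} {F₂ : Cfsg.FusionSystem S₂}
    {E : Cfsg.FusionSystem (S₁.prod S₂)} (hE : IsProductSystem F₁ F₂ E) :
    E = productSystem F₁ F₂ := by
  have h : E.Hom = (productSystem F₁ F₂).Hom :=
    funext fun P => Set.ext fun φ => mem_isProductSystem_iff hE
  cases E
  unfold productSystem
  simp only [Cfsg.FusionSystem.mk.injEq]
  exact h

end CfsgLib.FusionQuot
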