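import Cfsg.Prelude.Def_FusionComponents
import Cfsg.Agent.Lib.FusionQuot.Criterion

/-!
Simplicity of the fusion system of a finite group from strongly closed subgroups and generation of
`Aut_G(S)`.
-/
set_option autoImplicit false

namespace CfsgLib.FusionQuot

open Cfsg Cfsg.FusionSystem CfsgLib.Fusion

theorem isSimple_of_forall_eq {Ω : Type*} [Group Ω] {S : Subgroup Ω} {F : Cfsg.FusionSystem S} {p : ℕ}
    (hF : F.IsSaturated p) (hne : S ≠ ⊥) (ha : ∀ T : Subgroup Ω, F.StronglyClosed T → T = ⊥ ∨ T = S)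
    (hb : ∀ E : Cfsg.FusionSystem S, E.IsSaturated p → E.IsInvariantIn F → F.autGroup S ≤ E.autGroup S) :
    F.IsSimple p := by
  refine ⟨hF, hne, fun T E hE => ?_⟩
  rcases ha T hE.1.2.2.2.1 with rfl | rfl
  · exact Or.inl rfl
  · exact Or.inr ⟨rfl, hom_eq_of_autGroup_top_le hE.1.2.2 (hb E hE.1.1 hE.1.2.2)⟩

variable {G : Type*} [Group G] [Finite G] {p : ℕ} [Fact p.Prime]

/-- If the automorphisms of `S` induced by `G` are those induced by `S`, absence of strongly closed subgroups
gives simplicity. -/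
theorem isSimple_of_autInducedBy_top_le (S : Sylow p G) (hne : (S : Subgroup G) ≠ ⊥)
    (ha : ∀ T : Subgroup G, (groupFusionSystem (S : Subgroup G)).StronglyClosed T →
      T = ⊥ ∨ T = (S : Subgroup G))
    (hb : autInducedBy ⊤ (S : Subgroup G) ≤ autInducedBy (S : Subgroup G) (S : Subgroup G)) :
    (groupFusionSystem (S : Subgroup G)).IsSimple p := by
  refine isSimple_of_forall_eq (groupFusionSystem_isSaturated S) hne ha fun E _ _ => ?_
  rw [group_autGroup_eq le_rfl]
  exact hb.trans (autInducedBy_le_autGroup E le_rfl)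

theorem autInducedBy_closure_le (S : Sylow p G) {E : Cfsg.FusionSystem (S : Subgroup G)}
    (hE : E.IsSaturated p) (hinv : E.IsInvariantIn (groupFusionSystem (S : Subgroup G))) {R : Subgroup G}
    (hRn : (groupFusionSystem (S : Subgroup G)).IsFullyNormalized R)
    (hRc : (groupFusionSystem (S : Subgroup G)).IsCentric R) :
    autInducedBy (Subgroup.closure {g : G | g ∈ Subgroup.normalizer (R : Set G) ∧
      ∃ k : ℕ, orderOf g = p ^ k}) (S : Subgroup G) ≤ E.autGroup (S : Subgroup G) := by
  intro α hα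
  obtain ⟨g, hg, hgK, rfl⟩ := exists_eq_conjAut hα
  exact conjAut_mem_of_closure S hE hinv hRn hRc hgK hg

end CfsgLib.FusionQuot
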